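import Mathlib

set_option autoImplicit false

namespace Cfsg.Agent.Lib.Helper81

variable {G : Type*} [Group G] (K H : Subgroup G) [K.Normal]

/-- In a "Frobenius" situation every element of the coset `K h` is `K`-conjugate to `h`. -/
theorem frob_coset_conj [Finite G]
    (hfpf : ∀ h ∈ H, h ≠ 1 → ∀ k ∈ K, h * k = k * h → k = 1)
    {h : G} (hh : h ∈ H) (h1 : h ≠ 1) {u : G} (hu : u ∈ K) :
    ∃ k ∈ K, u * h = k * h * k⁻¹ := by
  let φ : K → K := fun k => ⟨k * h * (k : G)⁻¹ * h⁻¹, by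
    have h2 : h * (k : G)⁻¹ * h⁻¹ ∈ K :=
      (inferInstance : K.Normal).conj_mem _ (K.inv_mem k.2) h
    have : (k : G) * h * (k : G)⁻¹ * h⁻¹ = k * (h * (k : G)⁻¹ * h⁻¹) := by group
    rw [this]
    exact K.mul_mem k.2 h2⟩
  have hinj : Function.Injective φ := by
    intro k₁ k₂ h12
    have h3 : (k₁ : G) * h * (k₁ : G)⁻¹ * h⁻¹ = k₂ * h * (k₂ : G)⁻¹ * h⁻¹ :=
      congrArg Subtype.val h12
    have h4 : (k₁ : G) * h * (k₁ : G)⁻¹ = k₂ * h * (k₂ : G)⁻¹ := mul_right_cancel h3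
    have h5 : h * ((k₂ : G)⁻¹ * k₁) = ((k₂ : G)⁻¹ * k₁) * h := by
      calc h * ((k₂ : G)⁻¹ * k₁) = (k₂ : G)⁻¹ * (k₂ * h * (k₂ : G)⁻¹) * k₁ := by group
        _ = (k₂ : G)⁻¹ * ((k₁ : G) * h * (k₁ : G)⁻¹) * k₁ := by rw [h4]
        _ = ((k₂ : G)⁻¹ * k₁) * h := by group
    have h6 := hfpf h hh h1 _ (K.mul_mem (K.inv_mem k₂.2) k₁.2) h5
    ext
    exact (inv_mul_eq_one.1 h6).symm
  obtain ⟨k, hk⟩ := Finite.surjective_of_injective hinj ⟨u, hu⟩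
  refine ⟨k, k.2, ?_⟩
  have : (k : G) * h * (k : G)⁻¹ * h⁻¹ = u := congrArg Subtype.val hk
  rw [← this]
  group

omit [K.Normal] in
theorem exists_mul_of_sup_eq_top [K.Normal] (hKH' : K ⊔ H = ⊤) (g : G) :
    ∃ u ∈ K, ∃ h ∈ H, g = u * h := by
  have : g ∈ ((K ⊔ H : Subgroup G) : Set G) := by rw [hKH']; trivial
  rw [Subgroup.normal_mul] at this
  obtain ⟨u, hu, h, hh, rfl⟩ := Set.mem_mul.1 this
  exact ⟨u, hu, h, hh, rfl⟩

/-- In a "Frobenius" situation the centralizer of a non-identity element of `K` lies in `K`. -/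
theorem frob_centralizer_le [Finite G] (hKH' : K ⊔ H = ⊤)
    (hfpf : ∀ h ∈ H, h ≠ 1 → ∀ k ∈ K, h * k = k * h → k = 1)
    {k₀ : G} (hk₀ : k₀ ∈ K) (hk₀1 : k₀ ≠ 1) {g : G} (hg : g * k₀ = k₀ * g) : g ∈ K := by
  obtain ⟨u, hu, h, hh, rfl⟩ := exists_mul_of_sup_eq_top K H hKH' g
  by_cases h1 : h = 1
  · rw [h1, mul_one]; exact hu
  · exfalso
    obtain ⟨k, hk, hkk⟩ := frob_coset_conj K H hfpf hh h1 hu
    rw [hkk] at hg
    apply hk₀1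
    have hmem : k⁻¹ * k₀ * k ∈ K := K.mul_mem (K.mul_mem (K.inv_mem hk) hk₀) hk
    have hc : h * (k⁻¹ * k₀ * k) = (k⁻¹ * k₀ * k) * h := by
      calc h * (k⁻¹ * k₀ * k) = k⁻¹ * (k * h * k⁻¹ * k₀) * k := by group
        _ = k⁻¹ * (k₀ * (k * h * k⁻¹)) * k := by rw [hg]
        _ = (k⁻¹ * k₀ * k) * h := by group
    have := hfpf h hh h1 _ hmem hc
    have h2 : k₀ = k * (k⁻¹ * k₀ * k) * k⁻¹ := by group
    rw [h2, this]; group

end Cfsg.Agent.Lib.Helper81
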