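import Mathlib
import Cfsg.Prelude.Def_Characters
import Cfsg.Agent.Lib.Helper74.CharBasic
import Cfsg.Agent.Lib.Helper3.Table
import Cfsg.Agent.Lib.Helper81.Compl

set_option autoImplicit false
set_option linter.style.haveILetI false

namespace Cfsg.Agent.Lib.Helper81

open Cfsg.Agent.Lib.Helper74
open scoped ComplexConjugate

variable {G : Type*} [Group G]

/-- The complex conjugate of an irreducible character is irreducible. -/
theorem IsIrrCharacter.star [Finite G] {χ : G → ℂ} (h : Cfsg.IsIrrCharacter G χ) :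
    Cfsg.IsIrrCharacter G (fun g => conj (χ g)) := by
  haveI := Fintype.ofFinite G
  rw [Cfsg.Agent.Lib.Helper3.isIrrCharacter_iff] at h ⊢
  refine ⟨IsCharacter.star h.1, ?_⟩
  have h2 := congrArg conj h.2
  rw [map_one] at h2
  rw [← h2]
  simp only [Cfsg.classInner, map_mul, map_inv₀, map_natCast, map_sum, Complex.conj_conj]

/-- Counting the irreducible characters fixed by a "twist" `χ ↦ χ ∘ a`. -/
theorem card_fixed_irr [Fintype G] (a : G → G) (σ : Cfsg.IrrCharacter G → Cfsg.IrrCharacter G)
    (hσ : ∀ χ g, (σ χ : G → ℂ) g = (χ : G → ℂ) (a g)) :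
    (Nat.card {χ : Cfsg.IrrCharacter G // σ χ = χ} : ℂ) =
      (Nat.card G : ℂ)⁻¹ * ∑ g : G, (Nat.card {u : G // u * g * u⁻¹ = a g} : ℂ) := by
  classical
  have h1 : (Nat.card {χ : Cfsg.IrrCharacter G // σ χ = χ} : ℂ)
      = ∑ χ : Cfsg.IrrCharacter G, Cfsg.classInner (χ : G → ℂ) (σ χ : G → ℂ) := by
    simp only [classInner_irr]
    rw [Nat.card_eq_fintype_card, Fintype.card_subtype, Finset.sum_boole]
    congr 2
    ext χ
    simp [eq_comm]
  rw [h1]
  simp only [Cfsg.classInner]
  rw [← Finset.mul_sum, Finset.sum_comm]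
  congr 1
  refine Finset.sum_congr rfl fun g _ => ?_
  rw [← second_orth]
  refine Finset.sum_congr rfl fun χ _ => ?_
  rw [hσ]

/-- Brauer's permutation lemma in a general form: if `χ ↦ χ ∘ a` permutes the irreducible
characters and `a` induces the map `ā` on conjugacy classes, both have the same number of fixed
points. -/
theorem brauer_perm [Finite G] (a : G → G) (σ : Cfsg.IrrCharacter G → Cfsg.IrrCharacter G)
    (hσ : ∀ χ g, (σ χ : G → ℂ) g = (χ : G → ℂ) (a g))
    (abar : ConjClasses G → ConjClasses G)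
    (habar : ∀ g, abar (ConjClasses.mk g) = ConjClasses.mk (a g)) :
    Nat.card {χ : Cfsg.IrrCharacter G // σ χ = χ} = Nat.card {c : ConjClasses G // abar c = c} := by
  classical
  haveI := Fintype.ofFinite G
  haveI : Fintype (ConjClasses G) := Fintype.ofFinite _
  have hc : (Nat.card G : ℂ) ≠ 0 := by exact_mod_cast (Nat.card_pos (α := G)).ne'
  have h := card_fixed_irr a σ hσ
  have h2 : ∑ g : G, (Nat.card {u : G // u * g * u⁻¹ = a g} : ℂ)
      = ∑ g : G, (if abar (ConjClasses.mk g) = ConjClasses.mk g then (1 : ℂ) else 0) *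
        (Nat.card (Subgroup.centralizer ({g} : Set G)) : ℂ) := by
    refine Finset.sum_congr rfl fun g _ => ?_
    rw [habar]
    by_cases hg : IsConj g (a g)
    · rw [card_conjugators_of_isConj hg, if_pos (ConjClasses.mk_eq_mk_iff_isConj.2 hg.symm),
        one_mul]
    · rw [card_conjugators_of_not_isConj hg,
        if_neg (fun h => hg (ConjClasses.mk_eq_mk_iff_isConj.1 h).symm)]
      simp
  rw [h2, sum_mul_card_centralizer (fun c => if abar c = c then (1 : ℂ) else 0),
    ← mul_assoc, inv_mul_cancel₀ hc, one_mul, finsum_eq_sum_of_fintype, Finset.sum_boole] at h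
  rw [Nat.card_eq_fintype_card (α := {c : ConjClasses G // abar c = c}), Fintype.card_subtype]
  exact_mod_cast h

end Cfsg.Agent.Lib.Helper81
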