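import Cfsg.Agent.Lib.Helper74.CharMore
import Cfsg.Agent.Lib.Helper74.Extend
import Cfsg.Agent.Lib.Helper80.Inflation
import Cfsg.Agent.Lib.Helper15.CharTools

/-!
# Characters and homomorphisms: irreducibility from a pullback, deflation along a surjection
-/

set_option autoImplicit false

namespace Cfsg.Agent.Lib.Helper81

open Cfsg Cfsg.Agent.Lib

/-- a character whose pullback along some homomorphism is irreducible is irreducible -/
theorem irr_of_comp_irr {A B : Type*} [Group A] [Group B] [Finite B] (f : B →* A) {χ : A → ℂ}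
    (hχ : IsCharacter A χ) (h : IsIrrCharacter B (fun b => χ (f b))) : IsIrrCharacter A χ := by
  obtain ⟨n, ρ, rfl⟩ := hχ
  have h1 : Representation.IsIrreducible (ρ.comp f : Representation ℂ B (Fin n → ℂ)) :=
    Helper74.isIrreducible_of_isIrrCharacter (ρ.comp f : Representation ℂ B (Fin n → ℂ)) h
  exact ⟨n, ρ, Helper74.isIrreducible_of_comp ρ f h1, rfl⟩

/-- deflation of an irreducible character along a surjective homomorphism -/
theorem exists_deflate_surj {A B : Type*} [Group A] [Group B] [Finite A] (f : A →* B)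
    (hf : Function.Surjective f) {ψ : A → ℂ} (hψ : IsIrrCharacter A ψ)
    (hk : ∀ k ∈ f.ker, ψ k = ψ 1) : ∃ χ : B → ℂ, IsIrrCharacter B χ ∧ ∀ a, χ (f a) = ψ a := by
  obtain ⟨ψ', hψ', h'⟩ := Helper80.exists_deflate_irr (N := f.ker) hψ hk
  let e := QuotientGroup.quotientKerEquivOfSurjective f hf
  refine ⟨ψ' ∘ e.symm, Helper15.irr_comp_equiv e.symm hψ', fun a => ?_⟩
  have : e.symm (f a) = (a : A ⧸ f.ker) := by
    rw [MulEquiv.symm_apply_eq]
    rfl
  rw [Function.comp_apply, this, h']

end Cfsg.Agent.Lib.Helper81
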