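import Cfsg.Agent.Lib.Helper15.Gallagher
import Cfsg.Agent.Lib.Helper15.Relative
import Cfsg.Agent.Lib.Helper81.CharHom

/-!
# Averaging a class function over the cosets of a normal subgroup
-/

set_option autoImplicit false

namespace Cfsg.Agent.Lib.Helper81

open Cfsg Cfsg.Agent.Lib Cfsg.Agent.Lib.Helper15
open scoped ComplexConjugate

section basic

variable {X : Type*} [Group X] [Fintype X]

/-- a character containing an irreducible character of the same degree equals it -/
theorem eq_of_constituent_of_degree {α ψ : X → ℂ} (hα : IsCharacter X α)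
    (hψ : IsIrrCharacter X ψ) (h : classInner α ψ ≠ 0) (h1 : α 1 = ψ 1) : α = ψ := by
  have h2 := char_sub_irr hα hψ h
  have h3 := Helper74.IsCharacter.eq_zero_of_one_eq_zero h2 (by
    rw [Pi.sub_apply, h1, sub_self])
  exact sub_eq_zero.1 h3

/-- an irreducible character is not the sum of two nonzero characters -/
theorem eq_zero_of_add_irr {α γ : X → ℂ} (hα : IsCharacter X α) (hγ : IsCharacter X γ)
    (h : IsIrrCharacter X (α + γ)) (hα0 : α ≠ 0) : γ = 0 := by
  obtain ⟨ψ, hψ, hne⟩ := exists_constituent hα hα0
  obtain ⟨n, hn⟩ := inner_nat hα (irr_char hψ)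
  obtain ⟨m, hm⟩ := inner_nat hγ (irr_char hψ)
  have h1 : classInner (α + γ) ψ ≠ 0 := by
    rw [classInner_add_left, hn, hm]
    rw [hn] at hne
    have : n ≠ 0 := by
      rintro rfl
      exact hne (by simp)
    exact_mod_cast (by omega : n + m ≠ 0)
  have h2 : α + γ = ψ := irr_eq_of_inner_ne_zero h hψ h1
  have h3 := char_sub_irr hα hψ hne
  -- `α - ψ = -γ` is a character, and so is `γ`
  have h4 : (α - ψ) 1 + γ 1 = 0 := by
    rw [← h2]
    simp
  obtain ⟨a, ha⟩ := char_one_nat h3
  obtain ⟨c, hc⟩ := char_one_nat hγ
  rw [ha, hc] at h4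
  have h5 : c = 0 := by
    have : a + c = 0 := by exact_mod_cast h4
    omega
  exact Helper74.IsCharacter.eq_zero_of_one_eq_zero hγ (by rw [hc, h5]; simp)

end basic

section avg

variable {G : Type*} [Group G]

/-- the average of `f` over the cosets of `N` -/
noncomputable def avg (N : Subgroup G) [Fintype N] (f : G → ℂ) : G → ℂ :=
  fun x => (Nat.card N : ℂ)⁻¹ * ∑ n : N, f (n * x)

theorem avg_apply (N : Subgroup G) [Fintype N] (f : G → ℂ) (x : G) :
    avg N f x = (Nat.card N : ℂ)⁻¹ * ∑ n : N, f (n * x) := rfl

/-- averaging as a linear map -/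
noncomputable def avgLin (N : Subgroup G) [Fintype N] : (G → ℂ) →ₗ[ℂ] (G → ℂ) where
  toFun := avg N
  map_add' f g := by
    funext x
    simp only [avg_apply, Pi.add_apply, Finset.sum_add_distrib, mul_add]
  map_smul' c f := by
    funext x
    simp only [avg_apply, Pi.smul_apply, smul_eq_mul, RingHom.id_apply, ← Finset.mul_sum]
    ring

theorem avgLin_apply (N : Subgroup G) [Fintype N] (f : G → ℂ) : avgLin N f = avg N f := rfl

theorem avg_one (N : Subgroup G) [Fintype N] (f : G → ℂ) :
    avg N f 1 = classInner (fun n : N => f n) (fun _ => 1) := by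
  unfold classInner
  rw [avg_apply]
  simp

variable [Fintype G] (N : Subgroup G) [hN : N.Normal] [Fintype N]

theorem avg_of_irr {β : G → ℂ} (hβ : IsIrrCharacter G β) :
    avg N β = if classInner (fun n : N => β n) (fun _ => 1) = 0 then 0 else β := by
  funext x
  rw [avg_apply, avg_irr N hβ x]
  split_ifs <;> rfl

theorem avg_expansion {α : G → ℂ} (hα : IsClassFunction G α) :
    avg N α = ∑ χ : IrrCharacter G, classInner α χ • avg N (χ : G → ℂ) := by
  classical
  conv_lhs => rw [← avgLin_apply, cf_expansion hα, map_sum]
  apply Finset.sum_congr rfl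
  intro χ _
  rw [map_smul, avgLin_apply]

/-- the average of a character is a character -/
theorem char_avg {α : G → ℂ} (hα : IsCharacter G α) : IsCharacter G (avg N α) := by
  classical
  rw [avg_expansion N (char_cf hα)]
  apply Helper74.IsCharacter.sum
  intro χ _
  obtain ⟨n, hn⟩ := inner_nat hα (irr_char χ.2)
  rw [hn, avg_of_irr N χ.2]
  split_ifs
  · rw [smul_zero]; exact Helper74.IsCharacter.zero
  · exact Helper74.IsCharacter.nsmul (irr_char χ.2) n

/-- multiplicities of the characters with `N` in the kernel are not changed -/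
theorem inner_avg {α ψ : G → ℂ} (hα : IsClassFunction G α) (hψ : IsIrrCharacter G ψ)
    (h : classInner (fun n : N => ψ n) (fun _ => 1) ≠ 0) :
    classInner (avg N α) ψ = classInner α ψ := by
  classical
  rw [avg_expansion N hα]
  conv_rhs => rw [cf_expansion hα]
  rw [classInner_sum_left, classInner_sum_left]
  apply Finset.sum_congr rfl
  intro χ _
  rw [classInner_smul_left, classInner_smul_left, avg_of_irr N χ.2]
  split_ifs with h0
  · have hne : (χ : G → ℂ) ≠ ψ := by
      intro he
      rw [he] at h0
      exact h h0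
    rw [irr_inner_ne χ.2 hψ hne]
    congr 1
    unfold classInner
    simp
  · rfl

/-- averaging commutes with induction from a subgroup containing `N` -/
theorem avg_indFun (T : Subgroup G) (hNT : N ≤ T) [Fintype (N.subgroupOf T)] (μ : T → ℂ) :
    avg N (indFun T μ) = indFun T (avg (N.subgroupOf T) μ) := by
  have key : ∀ z : G, extendByZero T (avg (N.subgroupOf T) μ) z
      = (Nat.card N : ℂ)⁻¹ * ∑ n : N, extendByZero T μ (n * z) := by
    intro z
    by_cases hz : z ∈ T
    · rw [extendByZero_mem T _ hz, avg_apply, card_subgroupOf_of_le hNT]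
      congr 1
      apply Fintype.sum_equiv (Subgroup.subgroupOfEquivOfLe hNT).toEquiv
      intro n
      have hm : (((Subgroup.subgroupOfEquivOfLe hNT) n : N) : G) * z ∈ T :=
        T.mul_mem (hNT ((Subgroup.subgroupOfEquivOfLe hNT) n).2) hz
      change _ = extendByZero T μ (((Subgroup.subgroupOfEquivOfLe hNT) n : N) * z)
      rw [extendByZero_mem T _ hm]
      rfl
    · rw [extendByZero_not_mem T _ hz]
      symm
      apply mul_eq_zero_of_right
      apply Finset.sum_eq_zero
      intro n _
      apply extendByZero_not_mem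
      intro hm
      apply hz
      have := T.mul_mem (T.inv_mem (hNT n.2)) hm
      rwa [inv_mul_cancel_left] at this
  funext x
  rw [avg_apply, indFun_apply]
  simp_rw [indFun_apply, key]
  rw [← Finset.mul_sum, ← Finset.mul_sum, Finset.sum_comm]
  rw [mul_left_comm]
  congr 2
  apply Finset.sum_congr rfl
  intro y _
  apply Fintype.sum_equiv (MulAut.conjNormal y⁻¹ : N ≃* N).toEquiv
  intro n
  congr 1
  change y⁻¹ * (n * x) * y = y⁻¹ * n * y⁻¹⁻¹ * (y⁻¹ * x * y)
  group

/-- **Isaacs 8.14**: if `χ` restricts irreducibly to `N`, the mean of `|χ|²` on each coset is `1`. -/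
theorem coset_norm {χ : G → ℂ} (hχ : IsIrrCharacter G χ)
    (hχN : IsIrrCharacter N (fun n : N => χ n)) (x : G) :
    classInner (fun n : N => χ (n * x)) (fun n : N => χ (n * x)) = 1 := by
  have hchar : IsCharacter G (χ * fun g => conj (χ g)) :=
    Helper74.IsCharacter.mul (irr_char hχ) (Helper74.IsCharacter.star (irr_char hχ))
  have h1 : avg N (χ * fun g => conj (χ g)) = fun _ => 1 := by
    apply eq_of_constituent_of_degree (char_avg N hchar) irr_one
    · rw [inner_avg N (char_cf hchar) irr_one (by
        rw [irr_inner_self irr_one]; exact one_ne_zero)]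
      have : classInner (χ * fun g => conj (χ g)) (fun _ => 1) = classInner χ χ := by
        unfold classInner
        simp
      rw [this, irr_inner_self hχ]
      exact one_ne_zero
    · rw [avg_one]
      have : classInner (fun n : N => (χ * fun g => conj (χ g)) n) (fun _ => 1)
          = classInner (fun n : N => χ n) (fun n : N => χ n) := by
        unfold classInner
        simp
      rw [this, irr_inner_self hχN]
  have h2 := congrFun h1 x
  rw [avg_apply] at h2
  exact h2

/-- on each coset of `N` there is an element where `χ` does not vanish -/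
theorem exists_ne_zero_coset {χ : G → ℂ} (hχ : IsIrrCharacter G χ)
    (hχN : IsIrrCharacter N (fun n : N => χ n)) (x : G) : ∃ n : N, χ (n * x) ≠ 0 := by
  by_contra hcon
  push Not at hcon
  have h := coset_norm N hχ hχN x
  unfold classInner at h
  simp [hcon] at h

end avg

end Cfsg.Agent.Lib.Helper81
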