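import Cfsg.Agent.Lib.Helper29.Glauberman

/-!
# Glauberman's lemma on an invariant subset; automorphisms induced on quotients and dual groups
-/

set_option autoImplicit false

namespace Cfsg.Agent.Lib.Helper81

open Cfsg

/-- automorphisms induced on the quotient by an invariant normal subgroup -/
noncomputable def quotAut {G A : Type*} [Group G] [Group A] (φ : A →* MulAut G) (N : Subgroup G)
    [N.Normal] (hN : ∀ a, ∀ n ∈ N, φ a n ∈ N) : A →* MulAut (G ⧸ N) :=
  MonoidHom.mk' (fun a => QuotientGroup.congr N N (φ a) (by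
    apply le_antisymm
    · rintro _ ⟨n, hn, rfl⟩
      exact hN a n hn
    · intro n hn
      refine ⟨φ a⁻¹ n, hN a⁻¹ n hn, ?_⟩
      change φ a (φ a⁻¹ n) = n
      rw [← MulAut.mul_apply, ← map_mul, mul_inv_cancel, map_one, MulAut.one_apply])) (by
    intro a b
    apply MulEquiv.ext
    intro x
    induction x using QuotientGroup.induction_on with
    | H g =>
      rw [MulAut.mul_apply, QuotientGroup.congr_mk, QuotientGroup.congr_mk, QuotientGroup.congr_mk,
        map_mul, MulAut.mul_apply])

theorem quotAut_mk {G A : Type*} [Group G] [Group A] (φ : A →* MulAut G) (N : Subgroup G)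
    [N.Normal] (hN : ∀ a, ∀ n ∈ N, φ a n ∈ N) (a : A) (g : G) :
    quotAut φ N hN a (g : G ⧸ N) = ((φ a g : G) : G ⧸ N) := rfl

theorem quotAut_symm_mk {G A : Type*} [Group G] [Group A] (φ : A →* MulAut G) (N : Subgroup G)
    [N.Normal] (hN : ∀ a, ∀ n ∈ N, φ a n ∈ N) (a : A) (g : G) :
    (quotAut φ N hN a).symm (g : G ⧸ N) = ((φ a⁻¹ g : G) : G ⧸ N) := by
  rw [MulEquiv.symm_apply_eq, quotAut_mk, ← MulAut.mul_apply, ← map_mul, mul_inv_cancel, map_one,
    MulAut.one_apply]

/-- the action induced on the dual group -/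
noncomputable def dualAut {Q A : Type*} [Group Q] [Group A] (φ : A →* MulAut Q) :
    A →* MulAut (Q →* ℂˣ) :=
  MonoidHom.mk' (fun a => (φ a).monoidHomCongrLeft) (by
    intro a b
    apply MulEquiv.ext
    intro l
    apply MonoidHom.ext
    intro x
    change l ((φ (a * b)).symm x) = l ((φ b).symm ((φ a).symm x))
    rw [map_mul]
    rfl)

theorem dualAut_apply {Q A : Type*} [Group Q] [Group A] (φ : A →* MulAut Q) (a : A) (l : Q →* ℂˣ)
    (x : Q) : dualAut φ a l x = l ((φ a).symm x) := rfl

/-- **Glauberman's lemma** on a subset invariant under both groups. -/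
theorem glauberman_set {K A : Type*} [Group K] [Group A] [Finite K] [Finite A]
    (φ : A →* MulAut K) (hcop : (Nat.card A).Coprime (Nat.card K))
    (hsolv : Group.IsSolvable A ∨ Group.IsSolvable K)
    {X : Type*} (fK : K →* Equiv.Perm X) (fA : A →* Equiv.Perm X)
    (hcompat : ∀ (a : A) (k : K) (x : X), fA a (fK k x) = fK (φ a k) (fA a x))
    (Y : Set X) (hne : Y.Nonempty) (hYK : ∀ k, ∀ x ∈ Y, fK k x ∈ Y)
    (hYA : ∀ a, ∀ x ∈ Y, fA a x ∈ Y)
    (htrans : ∀ x ∈ Y, ∀ y ∈ Y, ∃ k : K, fK k x = y) :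
    ∃ x ∈ Y, ∀ a : A, fA a x = x := by
  let mK : MulAction K Y :=
    { smul := fun k y => ⟨fK k y, hYK k y y.2⟩
      one_smul := fun y => Subtype.ext (by
        change fK 1 y = y
        rw [map_one]; rfl)
      mul_smul := fun k k' y => Subtype.ext (by
        change fK (k * k') y = fK k (fK k' y)
        rw [map_mul]; rfl) }
  let mA : MulAction A Y :=
    { smul := fun k y => ⟨fA k y, hYA k y y.2⟩
      one_smul := fun y => Subtype.ext (by
        change fA 1 y = y
        rw [map_one]; rfl)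
      mul_smul := fun k k' y => Subtype.ext (by
        change fA (k * k') y = fA k (fA k' y)
        rw [map_mul]; rfl) }
  have : Nonempty Y := hne.to_subtype
  obtain ⟨⟨x, hx⟩, -⟩ := Helper29.glauberman_abstract φ hcop hsolv
    (@MulAction.toPermHom K Y _ mK) (@MulAction.toPermHom A Y _ mA)
    (fun a k x => Subtype.ext (hcompat a k x))
    (fun x y => by
      obtain ⟨k, hk⟩ := htrans x x.2 y y.2
      exact ⟨k, Subtype.ext hk⟩)
  exact ⟨x, x.2, fun a => congrArg Subtype.val (hx a)⟩

end Cfsg.Agent.Lib.Helper81
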