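import Cfsg.Agent.Lib.Helper15.Glauberman5
import Cfsg.Agent.Lib.Helper15.LinearMul
import Cfsg.Agent.Lib.Helper15.LinearHom
import Cfsg.Agent.Lib.Helper15.Iso
import Cfsg.Agent.Lib.Helper81.GlaubermanSet
import Cfsg.Agent.S4447

/-!
# The dual group of an abelian quotient acts transitively on the characters over a given character
-/

set_option autoImplicit false

namespace Cfsg.Agent.Lib.Helper81

open Cfsg Cfsg.Agent.Lib Cfsg.Agent.Lib.Helper15
open scoped commutatorElement

/-- Isaacs, Problem 6.2: if `X/M` is abelian, two irreducible characters of `X` whose restrictions to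
`M` have a common constituent differ by a linear character of `X/M`. -/
theorem exists_linear_mul {X : Type*} [Group X] [Fintype X] (M : Subgroup X) [M.Normal] [Fintype M]
    (hM : commutator X ≤ M) {χ₁ χ₂ : X → ℂ} (h₁ : IsIrrCharacter X χ₁) (h₂ : IsIrrCharacter X χ₂)
    (h : classInner (fun m : M => χ₂ m) (fun m : M => χ₁ m) ≠ 0) :
    ∃ l : X →* ℂˣ, (∀ m ∈ M, l m = 1) ∧ χ₂ = toFn l * χ₁ := by
  classical
  have e1 : indFun M (fun m : M => χ₁ m) = indFun M (fun _ => 1) * χ₁ := by
    rw [← indFun_mul_restrict M (fun _ => 1) (irr_cf h₁)]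
    congr 1
    funext m
    simp
  have e2 : classInner (indFun M (fun m : M => χ₁ m)) χ₂ ≠ 0 := by
    rw [classInner_indFun_left M _ χ₂ (irr_cf h₂),
      inner_comm_of_char (char_restrict (irr_char h₁) M) (char_restrict (irr_char h₂) M)]
    exact h
  have hone : IsCharacter M (fun _ => (1 : ℂ)) := irr_char irr_one
  have e3 := cf_expansion (char_cf (char_indFun M hone))
  rw [e1, e3, Finset.sum_mul, classInner_sum_left] at e2
  obtain ⟨β, -, hβ⟩ := Finset.exists_ne_zero_of_sum_ne_zero e2
  rw [smul_mul_assoc, classInner_smul_left] at hβ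
  have hc := left_ne_zero_of_mul hβ
  have hi := right_ne_zero_of_mul hβ
  rw [classInner_indFun_left M _ _ (irr_cf β.2),
    inner_comm_of_char hone (char_restrict (irr_char β.2) M)] at hc
  have hβ1 : (β : X → ℂ) 1 = 1 := linear_of_commutator_le M hM β.2 hc
  have hβM := (restrict_eq_of_inner_one_ne_zero M β.2 hc).2
  obtain ⟨l, hl⟩ := exists_toFn (irr_char β.2) hβ1
  refine ⟨l, fun m hm => ?_, ?_⟩
  · have h3 := hβM ⟨m, hm⟩
    rw [hβ1, hl, toFn_apply] at h3
    exact Units.ext h3
  · rw [← hl]
    exact (irr_eq_of_inner_ne_zero (irr_linear_mul (irr_char β.2) hβ1 h₁) h₂ hi).symm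

/-- the dual group of `X/M` acts on `Irr(X)` by multiplication -/
@[instance_reducible] noncomputable def dualMulAction {X : Type*} [Group X] [Finite X] (M : Subgroup X) [M.Normal] :
    MulAction ((X ⧸ M) →* ℂˣ) (IrrCharacter X) where
  smul l χ := ⟨toFn (l.comp (QuotientGroup.mk' M)) * (χ : X → ℂ),
    irr_linear_mul (char_toFn _) (toFn_one' _) χ.2⟩
  one_smul χ := by
    apply Subtype.ext
    funext g
    change toFn ((1 : (X ⧸ M) →* ℂˣ).comp (QuotientGroup.mk' M)) g * (χ : X → ℂ) g = _
    simp [toFn_apply]
  mul_smul l l' χ := by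
    apply Subtype.ext
    funext g
    change toFn ((l * l').comp (QuotientGroup.mk' M)) g * (χ : X → ℂ) g
      = toFn (l.comp (QuotientGroup.mk' M)) g * (toFn (l'.comp (QuotientGroup.mk' M)) g *
        (χ : X → ℂ) g)
    simp [toFn_apply, mul_assoc]

theorem dualMulAction_apply {X : Type*} [Group X] [Finite X] (M : Subgroup X) [M.Normal]
    (l : (X ⧸ M) →* ℂˣ) (χ : IrrCharacter X) (g : X) :
    (((dualMulAction M).smul l χ : IrrCharacter X) : X → ℂ) g
      = (l (g : X ⧸ M) : ℂ) * (χ : X → ℂ) g := rfl

/-- the dual group of an abelian quotient has the same order -/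
theorem card_dual {X : Type*} [Group X] [Finite X] (M : Subgroup X) [M.Normal]
    (hM : commutator X ≤ M) : Nat.card ((X ⧸ M) →* ℂˣ) = M.index := by
  let _ : CommGroup (X ⧸ M) :=
    { (inferInstance : Group (X ⧸ M)) with
      mul_comm := by
        intro a b
        induction a using QuotientGroup.induction_on with
        | H a =>
          induction b using QuotientGroup.induction_on with
          | H b =>
            rw [← QuotientGroup.mk_mul, ← QuotientGroup.mk_mul, QuotientGroup.eq]
            apply hM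
            have h : (a * b)⁻¹ * (b * a) = ⁅b⁻¹, a⁻¹⁆ := by
              rw [commutatorElement_def]; group
            rw [h]
            exact Subgroup.commutator_mem_commutator (Subgroup.mem_top _) (Subgroup.mem_top _) }
  exact CommGroup.card_monoidHom_of_hasEnoughRootsOfUnity (X ⧸ M) ℂ

end Cfsg.Agent.Lib.Helper81
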