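import Cfsg.Agent.Lib.Helper81.Avg
import Cfsg.Agent.Lib.Helper81.BrauerPerm
import Cfsg.Agent.Lib.Helper81.DualAct
import Cfsg.Agent.Lib.Helper76.ClassCount
import Cfsg.Agent.Lib.Helper1.Tools
import Cfsg.Agent.S0887

/-!
# Character theoretic lemmas for Berger's theorem
-/

set_option autoImplicit false

namespace Cfsg.Agent.Lib.Helper81

open Cfsg Cfsg.Agent.Lib Cfsg.Agent.Lib.Helper15
open scoped ComplexConjugate

section general

/-- summing over the fibres of a surjective homomorphism -/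
theorem sum_comp_surj {A G : Type*} [Group A] [Group G] [Fintype A] [Fintype G] (π : A →* G)
    (hπ : Function.Surjective π) (F : G → ℂ) :
    ∑ a : A, F (π a) = (Nat.card π.ker : ℂ) * ∑ g : G, F g := by
  classical
  let e := QuotientGroup.quotientKerEquivOfSurjective π hπ
  have h1 := Helper76.sum_comp_mk π.ker (fun q => F (e q))
  have h2 : ∑ q : A ⧸ π.ker, F (e q) = ∑ g : G, F g := Equiv.sum_comp e.toEquiv F
  rw [h2] at h1
  exact h1

/-- induction commutes with inflation -/
theorem indFun_comap {A G : Type*} [Group A] [Group G] [Fintype A] [Fintype G] (π : A →* G)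
    (hπ : Function.Surjective π) (H : Subgroup G) (ϑ : H → ℂ) :
    indFun (H.comap π) (fun x : H.comap π => ϑ ⟨π x, x.2⟩) = fun a => indFun H ϑ (π a) := by
  funext a
  have key : ∀ z : A, extendByZero (H.comap π) (fun x : H.comap π => ϑ ⟨π x, x.2⟩) z
      = extendByZero H ϑ (π z) := by
    intro z
    by_cases hz : π z ∈ H
    · rw [extendByZero_mem H _ hz, extendByZero_mem (H.comap π) _ (Subgroup.mem_comap.2 hz)]
    · rw [extendByZero_not_mem H _ hz, extendByZero_not_mem (H.comap π) _ hz]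
  rw [indFun_apply, indFun_apply]
  simp_rw [key, map_mul, map_inv]
  rw [sum_comp_surj π hπ (fun g => extendByZero H ϑ (g⁻¹ * π a * g)),
    Helper1.card_comap_of_surjective hπ]
  have h1 : (Nat.card π.ker : ℂ) ≠ 0 := card_ne_zero _
  have h2 : (Nat.card H : ℂ) ≠ 0 := card_ne_zero _
  push_cast
  field_simp

variable {G : Type*} [Group G] [Fintype G]

/-- a character all of whose irreducible constituents are equal to `φ` is a multiple of `φ` -/
theorem homog_of_unique {α φ : G → ℂ} (hα : IsCharacter G α) (hφ : IsIrrCharacter G φ)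
    (h : ∀ ζ, IsIrrCharacter G ζ → classInner α ζ ≠ 0 → ζ = φ) :
    ∃ e : ℕ, α = (e : ℂ) • φ := by
  classical
  obtain ⟨e, he⟩ := inner_nat hα (irr_char hφ)
  refine ⟨e, ?_⟩
  have := cf_eq_sum_finset (char_cf hα) {φ} (by
    intro ζ hζ
    rw [Finset.mem_singleton] at hζ
    rw [hζ]; exact hφ) (by
    intro ζ hζ hn
    by_contra h0
    exact hn (Finset.mem_singleton.2 (h ζ hζ h0)))
  rw [Finset.sum_singleton, he] at this
  exact this

/-- a part of a multiple of `φ` is a multiple of `φ` -/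
theorem homog_of_add {α γ φ : G → ℂ} (hα : IsCharacter G α) (hγ : IsCharacter G γ)
    (hφ : IsIrrCharacter G φ) (e : ℂ) (h : α + γ = e • φ) : ∃ a : ℕ, α = (a : ℂ) • φ := by
  apply homog_of_unique hα hφ
  intro ζ hζ hne
  by_contra hcon
  have h1 : classInner (α + γ) ζ = 0 := by
    rw [h, classInner_smul_left, irr_inner_ne hφ hζ (fun h => hcon h.symm), mul_zero]
  obtain ⟨n, hn⟩ := inner_nat hα (irr_char hζ)
  obtain ⟨m, hm⟩ := inner_nat hγ (irr_char hζ)
  rw [classInner_add_left, hn, hm] at h1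
  rw [hn] at hne
  have h2 : n + m = 0 := by exact_mod_cast h1
  apply hne
  have : n = 0 := by omega
  rw [this]; simp

theorem exists_ind_of_le {T W : Subgroup G} (h : T ≤ W) {μ : T → ℂ} (hμ : IsCharacter T μ) :
    ∃ ν : W → ℂ, IsCharacter W ν ∧ indFun W ν = indFun T μ := by
  classical
  refine ⟨indFun (T.subgroupOf W) (downFun T W μ), char_indFun _ ?_, indFun_indFun h μ⟩
  rw [downFun_eq_comp h]
  exact char_comp_equiv _ hμ

theorem exists_ind_map {H : Subgroup G} [Fintype H] (T : Subgroup H) {μ : T → ℂ} (hμ : IsCharacter T μ) :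
    ∃ μ₁ : T.map H.subtype → ℂ, IsCharacter (T.map H.subtype) μ₁ ∧
      indFun (T.map H.subtype) μ₁ = indFun H (indFun T μ) := by
  classical
  let e := T.equivMapOfInjective H.subtype H.subtype_injective
  have hle : T.map H.subtype ≤ H := Subgroup.map_subtype_le T
  refine ⟨μ ∘ e.symm, char_comp_equiv e.symm hμ, ?_⟩
  rw [← indFun_indFun hle]
  congr 1
  apply indFun_congr
  · ext x
    rw [Subgroup.mem_subgroupOf, Subgroup.mem_map]
    constructor
    · rintro ⟨y, hy, hyx⟩
      have : y = x := Subtype.ext hyx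
      rwa [← this]
    · intro hx
      exact ⟨x, hx, rfl⟩
  · intro x h1 h2
    rw [downFun_apply, Function.comp_apply]
    refine congrArg _ ?_
    rw [MulEquiv.symm_apply_eq]
    exact Subtype.ext rfl

/-- the average over `N` of a character induced from `T ≤ H` is induced from `N T` -/
theorem avg_ind_induced (N : Subgroup G) [N.Normal] [Fintype N] {H : Subgroup G} [Fintype H]
    (T : Subgroup H) {μ : T → ℂ}
    (hμ : IsCharacter T μ) :
    ∃ ν : (N ⊔ T.map H.subtype : Subgroup G) → ℂ,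
      IsCharacter (N ⊔ T.map H.subtype : Subgroup G) ν ∧
      indFun (N ⊔ T.map H.subtype) ν = avg N (indFun H (indFun T μ)) := by
  classical
  obtain ⟨μ₁, hμ₁, h1⟩ := exists_ind_map T hμ
  obtain ⟨ν, hν, h2⟩ := exists_ind_of_le (le_sup_right : T.map H.subtype ≤ N ⊔ T.map H.subtype) hμ₁
  refine ⟨avg (N.subgroupOf (N ⊔ T.map H.subtype)) ν, char_avg _ hν, ?_⟩
  rw [← avg_indFun N _ le_sup_left, h2, h1]

/-- either the restriction to a normal subgroup is homogeneous, or the character is induced from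
a proper subgroup containing it -/
theorem homog_or_induced (R : Subgroup G) [R.Normal] {ω : G → ℂ} (hω : IsIrrCharacter G ω) :
    (∃ (ω₁ : R → ℂ) (c : ℕ), IsIrrCharacter R ω₁ ∧ (fun r : R => ω r) = (c : ℂ) • ω₁) ∨
    (∃ (T : Subgroup G) (ψ : T → ℂ), R ≤ T ∧ T ≠ ⊤ ∧ IsIrrCharacter T ψ ∧ indFun T ψ = ω) := by
  classical
  have hres : IsCharacter R (fun r : R => ω r) := char_restrict (irr_char hω) R
  obtain ⟨ω₁, hω₁, hne⟩ := exists_constituent hres (by
    intro h
    exact irr_one_ne_zero hω (congrFun h 1))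
  by_cases hT : inertia R ω₁ = ⊤
  · left
    obtain ⟨c, hc⟩ := inner_nat hres (irr_char hω₁)
    refine ⟨ω₁, c, hω₁, ?_⟩
    rw [← hc]
    apply restrict_eq_smul_of_invariant R hω hω₁ hne
    intro g
    rw [← mem_inertia, hT]
    exact Subgroup.mem_top g
  · right
    have hRT : R ≤ inertia R ω₁ := le_inertia R (irr_cf hω₁)
    obtain ⟨-, -, -, h4⟩ := clifford_correspondence R hω₁ (inertia R ω₁)
      (fun g => mem_inertia R ω₁ g) hRT
    obtain ⟨ψ, hψ, -, hind⟩ := h4 ω hω hne
    exact ⟨_, ψ, hRT, hT, hψ, hind⟩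

/-- `β = avg (β τ τ̄)` -/
theorem avg_mul_conj (N : Subgroup G) [N.Normal] [Fintype N] {τ β : G → ℂ} (hτ : IsIrrCharacter G τ)
    (hτN : IsIrrCharacter N (fun n : N => τ n)) (hβ : ∀ (n : N) (x : G), β (n * x) = β x) :
    avg N (β * τ * fun g => conj (τ g)) = β := by
  funext x
  have h := coset_norm N hτ hτN x
  unfold classInner at h
  rw [avg_apply]
  simp only [Pi.mul_apply, hβ, mul_assoc]
  rw [← Finset.mul_sum, mul_left_comm, h, mul_one]

/-- the degree of the average of an induced function, when `K H = G` -/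
theorem avg_indFun_one (K H L : Subgroup G) [hK : K.Normal] [Fintype K] [Fintype L] (hKH : K ⊔ H = ⊤) (hLK : L ≤ K)
    (hLH : L ≤ H) (hKHL : K ⊓ H ≤ L) (μ : H → ℂ) :
    avg K (indFun H μ) 1 = classInner (fun l : L => μ ⟨l, hLH l.2⟩) (fun _ => 1) := by
  classical
  have hL : K ⊓ H = L := le_antisymm hKHL (le_inf hLK hLH)
  have hcard : Nat.card G * Nat.card L = Nat.card H * Nat.card K := by
    have := Helper1.card_sup_mul_card_inf (H := H) (K := K) (by
      rw [Subgroup.normalizer_eq_top_iff.2 hK]; exact le_top)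
    rw [sup_comm, hKH, inf_comm, hL, Subgroup.card_top] at this
    exact this
  have h1 : ∀ y : G, ∑ n : K, extendByZero H μ (y⁻¹ * (n * 1) * y) = ∑ n : K, extendByZero H μ n := by
    intro y
    apply Fintype.sum_equiv (MulAut.conjNormal y⁻¹ : K ≃* K).toEquiv
    intro n
    congr 1
    change y⁻¹ * (n * 1) * y = y⁻¹ * n * y⁻¹⁻¹
    group
  have h2 : ∑ l : L, μ ⟨l, hLH l.2⟩ = ∑ n : K, extendByZero H μ n := by
    apply Fintype.sum_of_injective (fun l : L => (⟨l, hLK l.2⟩ : K))
    · intro a b hab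
      exact Subtype.ext (congrArg (fun z : K => (z : G)) hab)
    · intro n hn
      apply extendByZero_not_mem
      intro hnH
      exact hn ⟨⟨n, hKHL ⟨n.2, hnH⟩⟩, rfl⟩
    · intro l
      rw [extendByZero_mem H μ (hLH l.2)]
  rw [avg_apply]
  simp_rw [indFun_apply]
  rw [← Finset.mul_sum, Finset.sum_comm]
  simp_rw [h1]
  unfold classInner
  simp only [map_one, mul_one, Finset.sum_const, Finset.card_univ, nsmul_eq_mul]
  rw [h2, ← Nat.card_eq_fintype_card]
  have e1 : (Nat.card G : ℂ) * Nat.card L = Nat.card H * Nat.card K := by exact_mod_cast hcard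
  have e2 : (Nat.card L : ℂ) ≠ 0 := card_ne_zero _
  have e3 : (Nat.card H : ℂ) ≠ 0 := card_ne_zero _
  have e4 : (Nat.card K : ℂ) ≠ 0 := card_ne_zero _
  field_simp
  rw [mul_right_comm, e1]
  ring

end general

end Cfsg.Agent.Lib.Helper81
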