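import Cfsg.Agent.Lib.Helper81.WreathM
import Cfsg.Agent.Lib.Helper81.Schur
import Mathlib.GroupTheory.FiniteAbelian.Duality
import Mathlib.GroupTheory.SemidirectProduct

/-!
# Groups of central type from regular orbits of linear characters
-/

set_option autoImplicit false

namespace Cfsg.Agent.Lib.Helper81

open Cfsg Cfsg.Agent.Lib Cfsg.Agent.Lib.Helper15
open scoped ComplexConjugate

section CT

variable {G A : Type*} [Group G] [CommGroup A] [MulDistribMulAction G A]

/-- the semidirect product -/
abbrev CTG (G A : Type*) [Group G] [CommGroup A] [MulDistribMulAction G A] : Type _ :=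
  A ⋊[MulDistribMulAction.toMulAut G A] G

/-- the linear character of the kernel -/
def ctLam (lam : A →* ℂˣ) : (SemidirectProduct.rightHom : CTG G A →* G).ker →* ℂˣ where
  toFun h := lam h.1.left
  map_one' := by simp
  map_mul' a b := by
    have ha : a.1.right = 1 := a.2
    simp [SemidirectProduct.mul_left, ha]

theorem ct_conj_right (x h : CTG G A) : (x⁻¹ * h * x).right = x.right⁻¹ * h.right * x.right := by
  simp

theorem ct_conj_left (x h : CTG G A) (hh : h.right = 1) :
    (x⁻¹ * h * x).left = x.right⁻¹ • h.left := by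
  simp only [SemidirectProduct.mul_left, SemidirectProduct.inv_left, SemidirectProduct.mul_right,
    SemidirectProduct.inv_right, hh, mul_one, MulDistribMulAction.toMulAut_apply]
  rw [mul_right_comm, ← map_mul, inv_mul_cancel, map_one, one_mul]
  rfl

theorem card_ct_ker : Nat.card (SemidirectProduct.rightHom : CTG G A →* G).ker = Nat.card A := by
  apply Nat.card_congr
  exact
    { toFun := fun h => h.1.left
      invFun := fun a => ⟨SemidirectProduct.inl a, by simp⟩
      left_inv := fun h => Subtype.ext (SemidirectProduct.ext rfl (h.2 : h.1.right = 1).symm)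
      right_inv := fun _ => rfl }

/-- the induced character -/
noncomputable def ctChar [Fintype (CTG G A)] (lam : A →* ℂˣ) : CTG G A → ℂ :=
  indFun (SemidirectProduct.rightHom : CTG G A →* G).ker (fun h => ((ctLam lam h : ℂˣ) : ℂ))

theorem ctChar_apply [Fintype G] [Fintype A] [Fintype (CTG G A)] (lam : A →* ℂˣ) (h : CTG G A)
    (hh : h.right = 1) : ctChar lam h = ∑ g : G, ((lam (g • h.left) : ℂˣ) : ℂ) := by
  classical
  unfold ctChar
  rw [indFun_apply, card_ct_ker]
  have h1 : ∀ x : CTG G A, extendByZero (SemidirectProduct.rightHom : CTG G A →* G).ker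
      (fun h => ((ctLam lam h : ℂˣ) : ℂ)) (x⁻¹ * h * x)
      = ((lam (x.right⁻¹ • h.left) : ℂˣ) : ℂ) := by
    intro x
    have hm : x⁻¹ * h * x ∈ (SemidirectProduct.rightHom : CTG G A →* G).ker := by
      rw [MonoidHom.mem_ker]
      change (x⁻¹ * h * x).right = 1
      rw [ct_conj_right, hh]; simp
    rw [extendByZero_mem _ _ hm]
    change ((lam (x⁻¹ * h * x).left : ℂˣ) : ℂ) = _
    rw [ct_conj_left x h hh]
  simp only [h1]
  rw [← Equiv.sum_comp (SemidirectProduct.equivProd (φ := MulDistribMulAction.toMulAut G A)).symm,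
    Fintype.sum_prod_type]
  have h2 : ∀ (a : A) (g : G), ((SemidirectProduct.equivProd
      (φ := MulDistribMulAction.toMulAut G A)).symm (a, g)).right = g := fun _ _ => rfl
  simp only [h2]
  rw [Finset.sum_const, Finset.card_univ, nsmul_eq_mul, ← Nat.card_eq_fintype_card,
    ← mul_assoc, inv_mul_cancel₀ (card_ne_zero A), one_mul]
  exact Equiv.sum_comp (Equiv.inv G) (fun g => ((lam (g • h.left) : ℂˣ) : ℂ))

theorem ctChar_apply' [Fintype (CTG G A)] (lam : A →* ℂˣ) (h : CTG G A)
    (hh : h.right ≠ 1) : ctChar lam h = 0 := by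
  classical
  unfold ctChar
  rw [indFun_apply]
  have h1 : ∀ x : CTG G A, extendByZero (SemidirectProduct.rightHom : CTG G A →* G).ker
      (fun h => ((ctLam lam h : ℂˣ) : ℂ)) (x⁻¹ * h * x) = 0 := by
    intro x
    apply extendByZero_not_mem
    rw [MonoidHom.mem_ker]
    change ¬ (x⁻¹ * h * x).right = 1
    rw [ct_conj_right]
    intro h0
    apply hh
    have : h.right = x.right * (x.right⁻¹ * h.right * x.right) * x.right⁻¹ := by group
    rw [this, h0]; simp
  simp [h1]

theorem ctChar_of_mem [Fintype G] [Fintype A] [Fintype (CTG G A)] (lam : A →* ℂˣ)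
    (Z : Subgroup A) (hfix : ∀ z ∈ Z, ∀ g : G, g • z = z) (h : CTG G A) (hh : h.right = 1)
    (hz : h.left ∈ Z) : ctChar lam h = (Nat.card G : ℂ) * ((lam h.left : ℂˣ) : ℂ) := by
  rw [ctChar_apply lam h hh]
  simp only [hfix _ hz]
  rw [Finset.sum_const, Finset.card_univ, nsmul_eq_mul, Nat.card_eq_fintype_card]

theorem ct_main [Fintype G] [Fintype A] [Fintype (CTG G A)] (lam : A →* ℂˣ) (Z : Subgroup A)
    (hfix : ∀ z ∈ Z, ∀ g : G, g • z = z)
    (hinj : ∀ z ∈ Z, lam z = 1 → z = 1)
    (hvan : ∀ a, a ∉ Z → ∑ g : G, ((lam (g • a) : ℂˣ) : ℂ) = 0)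
    (hcard : Nat.card A = Nat.card Z * Nat.card G) :
    IsIrrCharacter (CTG G A) (ctChar lam) ∧
    (∀ h : CTG G A, ctChar lam h = ctChar lam (1 : CTG G A) → h = 1) ∧
    ctChar lam (1 : CTG G A) = Nat.card G ∧
    (∀ h : CTG G A, h ∈ Subgroup.center (CTG G A) ↔ h.right = 1 ∧ h.left ∈ Z) := by
  classical
  have hG : (Nat.card G : ℂ) ≠ 0 := card_ne_zero G
  have hZ0 : (Nat.card Z : ℂ) ≠ 0 := card_ne_zero Z
  have hone : ctChar lam (1 : CTG G A) = Nat.card G := by
    rw [ctChar_of_mem lam Z hfix 1 rfl Z.one_mem]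
    simp
  have hsupp : ∀ h : CTG G A, ctChar lam h ≠ 0 → h.right = 1 ∧ h.left ∈ Z := by
    intro h h0
    have h1 : h.right = 1 := by
      by_contra hne
      exact h0 (ctChar_apply' lam h hne)
    refine ⟨h1, ?_⟩
    by_contra hne
    apply h0
    rw [ctChar_apply lam h h1]
    exact hvan _ hne
  have hchar : IsCharacter (CTG G A) (ctChar lam) := char_indFun _ (char_toFn (ctLam lam))
  have hirr : IsIrrCharacter (CTG G A) (ctChar lam) := by
    rw [isIrr_iff]
    refine ⟨hchar, ?_⟩
    unfold classInner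
    rw [← Equiv.sum_comp (SemidirectProduct.equivProd (φ := MulDistribMulAction.toMulAut G A)).symm,
      Fintype.sum_prod_type]
    have h1 : ∀ a : A, ∑ g : G, ctChar lam ((SemidirectProduct.equivProd
        (φ := MulDistribMulAction.toMulAut G A)).symm (a, g)) * conj (ctChar lam
          ((SemidirectProduct.equivProd (φ := MulDistribMulAction.toMulAut G A)).symm (a, g)))
        = extendByZero Z (fun _ => (Nat.card G : ℂ) ^ 2) a := by
      intro a
      rw [Finset.sum_eq_single 1]
      · by_cases ha : a ∈ Z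
        · rw [extendByZero_mem _ _ ha, ctChar_of_mem lam Z hfix _ rfl ha]
          have h3 := linear_mul_conj (char_toFn lam) (toFn_one' lam) a
          rw [toFn_apply] at h3
          change (Nat.card G : ℂ) * ((lam a : ℂˣ) : ℂ) * conj ((Nat.card G : ℂ) * ((lam a : ℂˣ) : ℂ))
            = _
          rw [map_mul, Complex.conj_natCast]
          calc (Nat.card G : ℂ) * ((lam a : ℂˣ) : ℂ) * ((Nat.card G : ℂ) * conj ((lam a : ℂˣ) : ℂ))
              = (Nat.card G : ℂ) ^ 2 * (((lam a : ℂˣ) : ℂ) * conj ((lam a : ℂˣ) : ℂ)) := by ring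
            _ = _ := by rw [h3, mul_one]
        · rw [extendByZero_not_mem _ _ ha]
          have : ctChar lam ((SemidirectProduct.equivProd
              (φ := MulDistribMulAction.toMulAut G A)).symm (a, 1)) = 0 := by
            by_contra h0
            exact ha (hsupp _ h0).2
          rw [this, zero_mul]
      · intro g _ hg
        rw [ctChar_apply' lam _ hg, zero_mul]
      · intro h; exact absurd (Finset.mem_univ _) h
    simp only [h1]
    rw [sum_extendByZero, Finset.sum_const, Finset.card_univ, nsmul_eq_mul,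
      ← Nat.card_eq_fintype_card, SemidirectProduct.card, hcard]
    push_cast
    field_simp
  refine ⟨hirr, ?_, hone, ?_⟩
  · intro h hh
    have h0 : ctChar lam h ≠ 0 := by rw [hh, hone]; exact hG
    obtain ⟨h1, h2⟩ := hsupp h h0
    rw [ctChar_of_mem lam Z hfix h h1 h2, hone] at hh
    have h3 : ((lam h.left : ℂˣ) : ℂ) = 1 := by
      apply mul_left_cancel₀ hG
      rw [hh, mul_one]
    have h4 : h.left = 1 := hinj _ h2 (Units.ext h3)
    exact SemidirectProduct.ext h4 h1
  · intro h
    constructor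
    · intro hc
      apply hsupp
      intro h0
      have h1 := IsIrrCharacter.sum_mul_conj hirr h⁻¹ h
      have h2 : ∀ y : CTG G A, h⁻¹ * (y * h * y⁻¹) = 1 := by
        intro y
        rw [Subgroup.mem_center_iff] at hc
        rw [hc y]; group
      simp only [h2, h0, mul_zero, zero_div] at h1
      rw [Finset.sum_const, Finset.card_univ, nsmul_eq_mul, hone] at h1
      have h3 : (Fintype.card (CTG G A) : ℂ) ≠ 0 := by
        exact_mod_cast Fintype.card_ne_zero
      exact (mul_ne_zero h3 hG) h1
    · rintro ⟨h1, h2⟩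
      rw [Subgroup.mem_center_iff]
      intro x
      apply SemidirectProduct.ext
      · simp only [SemidirectProduct.mul_left, h1, map_one, MulAut.one_apply,
          MulDistribMulAction.toMulAut_apply]
        change x.left * (x.right • h.left) = _
        rw [hfix _ h2, mul_comm]
      · simp [h1]

end CT

universe u

/-- the product of the prime divisors -/
def prad (n : ℕ) : ℕ := ∏ p ∈ n.primeFactors, p

theorem prad_ne_zero (n : ℕ) : prad n ≠ 0 :=
  Finset.prod_ne_zero_iff.2 (fun _ hp => (Nat.prime_of_mem_primeFactors hp).ne_zero)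

theorem prad_dvd {m n : ℕ} (h : m ∣ n) (hn : n ≠ 0) : prad m ∣ prad n :=
  Finset.prod_dvd_prod_of_subset _ _ _ (Nat.primeFactors_mono h hn)

theorem dvd_prad {p n : ℕ} (hp : p.Prime) (hn : n ≠ 0) : p ∣ prad n ↔ p ∣ n := by
  constructor
  · intro h
    exact h.trans (Nat.prod_primeFactors_dvd n)
  · intro h
    exact Finset.dvd_prod_of_mem _ (Nat.mem_primeFactors.2 ⟨hp, h, hn⟩)

theorem squarefree_prad (n : ℕ) : Squarefree (prad n) := by
  apply Finset.squarefree_prod_of_pairwise_isCoprime
  · intro p hp q hq hpq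
    exact Nat.coprime_iff_isRelPrime.1 ((Nat.coprime_primes (Nat.prime_of_mem_primeFactors hp)
      (Nat.prime_of_mem_primeFactors hq)).2 hpq)
  · intro p hp
    exact (Nat.prime_of_mem_primeFactors hp).prime.squarefree

/-- a bijective 1-cocycle with values in a module of squarefree exponent -/
structure Coc (G : Type u) [Group G] where
  /-- the module -/
  B : Type u
  [cg : CommGroup B]
  [fin : Finite B]
  [act : MulDistribMulAction G B]
  /-- the cocycle -/
  c : G → B
  bij : Function.Bijective c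
  coc : ∀ g h, c (g * h) = c g * g • c h
  exp : ∀ b : B, b ^ prad (Nat.card G) = 1

attribute [instance] Coc.cg Coc.fin Coc.act

namespace Coc

variable {G : Type u} [Group G] (D : Coc G)

theorem c_one : D.c 1 = 1 := by
  have := D.coc 1 1
  rw [one_smul, mul_one] at this
  exact (mul_eq_left.1 this.symm)

/-- the dual module, extended by roots of unity -/
abbrev A : Type u := (D.B →* ℂˣ) × rootsOfUnity (prad (Nat.card G)) ℂ

/-- the value of a character at the cocycle, as a root of unity -/
noncomputable def ev (β : D.B →* ℂˣ) (g : G) : rootsOfUnity (prad (Nat.card G)) ℂ :=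
  ⟨β (D.c g), by rw [mem_rootsOfUnity, ← map_pow, D.exp, map_one]⟩

noncomputable instance : MulDistribMulAction G D.A where
  smul g a := (a.1.comp (MulDistribMulAction.toMonoidHom D.B g⁻¹), a.2 * D.ev a.1 g⁻¹)
  one_smul a := by
    apply Prod.ext
    · ext b
      change ((a.1 ((1 : G)⁻¹ • b) : ℂˣ) : ℂ) = _
      simp
    · change a.2 * D.ev a.1 (1 : G)⁻¹ = a.2
      have : D.ev a.1 (1 : G)⁻¹ = 1 := by
        apply Subtype.ext
        change a.1 (D.c (1 : G)⁻¹) = 1
        rw [inv_one, c_one, map_one]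
      rw [this, mul_one]
  mul_smul g h a := by
    apply Prod.ext
    · ext b
      change ((a.1 ((g * h)⁻¹ • b) : ℂˣ) : ℂ) = ((a.1 (h⁻¹ • g⁻¹ • b) : ℂˣ) : ℂ)
      rw [mul_inv_rev, mul_smul]
    · change a.2 * D.ev a.1 (g * h)⁻¹ = a.2 * D.ev a.1 h⁻¹ *
        D.ev (a.1.comp (MulDistribMulAction.toMonoidHom D.B h⁻¹)) g⁻¹
      rw [mul_assoc]
      congr 1
      apply Subtype.ext
      change a.1 (D.c (g * h)⁻¹) = a.1 (D.c h⁻¹) * a.1 (h⁻¹ • D.c g⁻¹)
      rw [mul_inv_rev, D.coc, map_mul]
  smul_mul g a b := by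
    apply Prod.ext
    · rfl
    · change a.2 * b.2 * D.ev (a.1 * b.1) g⁻¹ = a.2 * D.ev a.1 g⁻¹ * (b.2 * D.ev b.1 g⁻¹)
      have : D.ev (a.1 * b.1) g⁻¹ = D.ev a.1 g⁻¹ * D.ev b.1 g⁻¹ := rfl
      rw [this]
      exact mul_mul_mul_comm _ _ _ _
  smul_one g := by
    apply Prod.ext
    · rfl
    · change (1 : rootsOfUnity _ ℂ) * D.ev 1 g⁻¹ = 1
      rw [one_mul]
      rfl

theorem smul_fst (g : G) (a : D.A) :
    (g • a).1 = a.1.comp (MulDistribMulAction.toMonoidHom D.B g⁻¹) := rfl

theorem smul_snd (g : G) (a : D.A) : (g • a).2 = a.2 * D.ev a.1 g⁻¹ := rfl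

/-- the linear character with regular orbit -/
noncomputable def lam : D.A →* ℂˣ where
  toFun a := (a.2 : ℂˣ)
  map_one' := rfl
  map_mul' _ _ := rfl

/-- the centre -/
def Z : Subgroup D.A where
  carrier := {a | a.1 = 1}
  one_mem' := rfl
  mul_mem' := fun {a b} ha hb => by
    change a.1 * b.1 = 1
    rw [show a.1 = 1 from ha, show b.1 = 1 from hb]
    exact MonoidHom.ext (fun b => by simp)
  inv_mem' := fun {a} ha => by
    change a.1⁻¹ = 1
    rw [show a.1 = 1 from ha]
    exact MonoidHom.ext (fun b => by simp)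

theorem card_Z : Nat.card D.Z = prad (Nat.card G) := by
  have : NeZero (prad (Nat.card G)) := ⟨prad_ne_zero _⟩
  refine Eq.trans ?_ (Complex.card_rootsOfUnity (prad (Nat.card G)))
  apply Nat.card_congr
  exact
    { toFun := fun z => z.1.2
      invFun := fun w => ⟨(1, w), rfl⟩
      left_inv := fun z => Subtype.ext (Prod.ext (z.2 : z.1.1 = 1).symm rfl)
      right_inv := fun _ => rfl }

theorem card_A [Finite G] : Nat.card D.A = prad (Nat.card G) * Nat.card G := by
  have : NeZero (prad (Nat.card G)) := ⟨prad_ne_zero _⟩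
  rw [Nat.card_prod, CommGroup.card_monoidHom_of_hasEnoughRootsOfUnity D.B ℂ,
    ← Nat.card_eq_of_bijective D.c D.bij, Complex.card_rootsOfUnity, mul_comm]

instance [Finite G] : Finite D.A := by
  apply Nat.finite_of_card_ne_zero
  rw [card_A]
  exact mul_ne_zero (prad_ne_zero _) Nat.card_pos.ne'

theorem sum_lam [Fintype G] (a : D.A) (ha : a ∉ D.Z) :
    ∑ g : G, ((D.lam (g • a) : ℂˣ) : ℂ) = 0 := by
  classical
  have := Fintype.ofFinite D.B
  have h1 : ∀ g : G, ((D.lam (g • a) : ℂˣ) : ℂ)
      = ((a.2 : ℂˣ) : ℂ) * ((a.1 (D.c g⁻¹) : ℂˣ) : ℂ) := fun g => rfl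
  simp only [h1]
  rw [← Finset.mul_sum]
  have h2 : ∑ g : G, ((a.1 (D.c g⁻¹) : ℂˣ) : ℂ) = ∑ b : D.B, ((a.1 b : ℂˣ) : ℂ) := by
    refine Eq.trans (Equiv.sum_comp (Equiv.inv G) (fun g => ((a.1 (D.c g) : ℂˣ) : ℂ))) ?_
    exact Equiv.sum_comp (Equiv.ofBijective D.c D.bij) (fun b => ((a.1 b : ℂˣ) : ℂ))
  rw [h2]
  have h3 := sum_hom_units_eq_zero ((Units.coeHom ℂ).comp a.1) (by
    intro h
    apply ha
    change a.1 = 1
    ext b
    exact congrArg (fun f => f b) h)
  have h4 : ∑ b : D.B, ((a.1 b : ℂˣ) : ℂ) = 0 := h3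
  rw [h4, mul_zero]

theorem exists_ct [Finite G] (D : Coc G) : ∃ (H : Type u) (_ : Group H) (_ : Finite H) (χ : IrrCharacter H),
    (∀ h : H, (χ : H → ℂ) h = (χ : H → ℂ) 1 → h = 1) ∧
    (charDegree (χ : H → ℂ)) ^ 2 = (Subgroup.center H).index ∧
    (∃ f : G →* H ⧸ Subgroup.center H, Function.Injective f) ∧
    Nat.card H = prad (Nat.card G) * Nat.card G ^ 2 ∧
    Nat.card (Subgroup.center H) = prad (Nat.card G) := by
  classical
  have := Fintype.ofFinite G
  have := Fintype.ofFinite D.A
  have hfin : Finite (CTG G D.A) := Finite.of_equiv _ SemidirectProduct.equivProd.symm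
  have := Fintype.ofFinite (CTG G D.A)
  obtain ⟨hirr, hfaith, hone, hcen⟩ := ct_main (G := G) D.lam D.Z
    (by
      intro z hz g
      have hz1 : z.1 = 1 := hz
      apply Prod.ext
      · rw [smul_fst, hz1]; rfl
      · rw [smul_snd]
        have : D.ev z.1 g⁻¹ = 1 := by
          apply Subtype.ext
          change z.1 (D.c g⁻¹) = 1
          rw [hz1]; rfl
        rw [this, mul_one])
    (by
      intro z hz h
      exact Prod.ext hz (Subtype.ext h))
    (fun a ha => D.sum_lam a ha)
    (by rw [card_A, card_Z])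
  have hcc : Nat.card (Subgroup.center (CTG G D.A)) = prad (Nat.card G) := by
    refine Eq.trans ?_ (card_Z D)
    apply Nat.card_congr
    exact
      { toFun := fun h => ⟨h.1.left, ((hcen h.1).1 h.2).2⟩
        invFun := fun z => ⟨SemidirectProduct.inl z.1, (hcen _).2 ⟨rfl, z.2⟩⟩
        left_inv := fun h => Subtype.ext (SemidirectProduct.ext rfl ((hcen h.1).1 h.2).1.symm)
        right_inv := fun _ => rfl }
  have hcH : Nat.card (CTG G D.A) = prad (Nat.card G) * Nat.card G ^ 2 := by
    rw [SemidirectProduct.card, card_A]; ring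
  refine ⟨CTG G D.A, inferInstance, hfin, ⟨ctChar D.lam, hirr⟩, hfaith, ?_, ?_, hcH, hcc⟩
  · have h1 : charDegree (ctChar D.lam : CTG G D.A → ℂ) = Nat.card G := by
      unfold charDegree
      rw [hone, Complex.natCast_re, Nat.floor_natCast]
    change (charDegree (ctChar D.lam : CTG G D.A → ℂ)) ^ 2 = _
    rw [h1]
    have h2 := (Subgroup.center (CTG G D.A)).card_mul_index
    rw [hcc, hcH] at h2
    exact (Nat.eq_of_mul_eq_mul_left (Nat.pos_of_ne_zero (prad_ne_zero _)) h2).symm
  · refine ⟨(QuotientGroup.mk' _).comp SemidirectProduct.inr, ?_⟩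
    rw [injective_iff_map_eq_one]
    intro g hg
    rw [MonoidHom.comp_apply, QuotientGroup.mk'_apply, QuotientGroup.eq_one_iff] at hg
    exact ((hcen _).1 hg).1

end Coc

/-- the trivial group -/
noncomputable def Coc.ofSubsingleton (G : Type u) [Group G] [Subsingleton G] : Coc G where
  B := PUnit
  act :=
    { smul := fun _ b => b
      one_smul := fun _ => rfl
      mul_smul := fun _ _ _ => rfl
      smul_mul := fun _ _ _ => rfl
      smul_one := fun _ => rfl }
  c := fun _ => PUnit.unit
  bij := ⟨fun a b _ => Subsingleton.elim a b, fun _ => ⟨1, Subsingleton.elim _ _⟩⟩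
  coc := fun _ _ => rfl
  exp := fun _ => rfl

open RegularWreathProduct in
/-- bijective cocycles pass to wreath products with groups of prime order -/
noncomputable def Coc.wreath {M : Type u} [Group M] [Finite M] (D : Coc M) (Q : Type u) [Group Q]
    [Finite Q] (p : ℕ) [hp : Fact p.Prime] (hQ : Nat.card Q = p) : Coc (M ≀ᵣ Q) where
  B := (Q → D.B) × Multiplicative (ZMod p)
  act :=
    { smul := fun w β => (fun x => w.left x • β.1 (w.right⁻¹ * x), β.2)
      one_smul := fun β => by
        apply Prod.ext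
        · funext x
          change (1 : M) • β.1 ((1 : Q)⁻¹ * x) = β.1 x
          simp
        · rfl
      mul_smul := fun a b β => by
        apply Prod.ext
        · funext x
          change (a.left x * b.left (a.right⁻¹ * x)) • β.1 ((a.right * b.right)⁻¹ * x)
            = a.left x • b.left (a.right⁻¹ * x) • β.1 (b.right⁻¹ * (a.right⁻¹ * x))
          rw [mul_smul, mul_inv_rev, mul_assoc]
        · rfl
      smul_mul := fun w β γ => by
        apply Prod.ext
        · funext x
          exact smul_mul' _ _ _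
        · rfl
      smul_one := fun w => by
        apply Prod.ext
        · funext x
          exact smul_one _
        · rfl }
  c := fun w => (fun x => D.c (w.left x),
    mulEquivOfPrimeCardEq (p := p) hQ (by simp [Nat.card_eq_fintype_card]) w.right)
  bij := by
    constructor
    · intro a b hab
      apply RegularWreathProduct.ext
      · funext x
        exact D.bij.1 (congrFun (congrArg Prod.fst hab) x)
      · exact (mulEquivOfPrimeCardEq (p := p) hQ _).injective (congrArg Prod.snd hab)
    · intro β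
      choose f hf using fun x => D.bij.2 (β.1 x)
      refine ⟨⟨f, (mulEquivOfPrimeCardEq (p := p) hQ
        (by simp [Nat.card_eq_fintype_card])).symm β.2⟩, ?_⟩
      apply Prod.ext
      · funext x
        exact hf x
      · simp
  coc := fun a b => by
    apply Prod.ext
    · funext x
      exact D.coc _ _
    · exact map_mul _ _ _
  exp := fun β => by
    have hW : Nat.card (M ≀ᵣ Q) ≠ 0 := Nat.card_pos.ne'
    have hcard := RegularWreathProduct.card (D := M) (Q := Q)
    apply Prod.ext
    · funext x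
      have h1 : Nat.card M ∣ Nat.card (M ≀ᵣ Q) := by
        rw [hcard]
        exact Dvd.dvd.mul_right (dvd_pow_self _ Nat.card_pos.ne') _
      obtain ⟨t, ht⟩ := prad_dvd h1 hW
      change (β.1 x) ^ prad (Nat.card (M ≀ᵣ Q)) = 1
      rw [ht, pow_mul, D.exp, one_pow]
    · have h1 : p ∣ prad (Nat.card (M ≀ᵣ Q)) := by
        rw [dvd_prad hp.out hW, hcard, hQ]
        exact Dvd.intro_left _ rfl
      obtain ⟨t, ht⟩ := h1
      change β.2 ^ prad (Nat.card (M ≀ᵣ Q)) = 1
      have h2 : β.2 ^ p = 1 := by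
        have := pow_card_eq_one' (G := Multiplicative (ZMod p)) (x := β.2)
        simpa [Nat.card_eq_fintype_card] using this
      rw [ht, pow_mul, h2, one_pow]

end Cfsg.Agent.Lib.Helper81
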