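import Mathlib

set_option autoImplicit false

namespace Cfsg.Agent.Lib.Helper81.DG

/-- [G0] a solvable nonabelian group all of whose proper quotients are abelian. -/
theorem exists_section_core {G : Type*} [Group G] [Finite G] [Group.IsSolvable G]
    (hna : commutator G ≠ ⊥)
    (hmin : ∀ L : Subgroup G, L.Normal → L ≠ ⊥ → commutator G ≤ L) :
    ∃ p : ℕ, p.Prime ∧
      ((∃ k : ℕ, Nat.card G = p ^ k) ∨
       ((∃ k : ℕ, Nat.card (commutator G) = p ^ k) ∧
         (∀ a ∈ commutator G, ∀ b ∈ commutator G, a * b = b * a) ∧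
         ∀ t : G, t ∉ commutator G → ∀ n ∈ commutator G, t * n * t⁻¹ * n⁻¹ = 1 → n = 1)) := by
  classical
  obtain ⟨M, hM⟩ : ∃ M : Subgroup G, M = commutator G := ⟨_, rfl⟩
  rw [← hM] at hna hmin ⊢
  have hMn : M.Normal := by rw [hM]; infer_instance
  have hcomm : ∀ a b : G, a * b * a⁻¹ * b⁻¹ ∈ M := by
    intro a b
    have := Subgroup.commutator_mem_commutator (Subgroup.mem_top a) (Subgroup.mem_top b)
    rw [commutatorElement_def] at this
    rw [hM, commutator_def]
    exact this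
  -- (a) abelian
  have hab : ∀ a ∈ M, ∀ b ∈ M, a * b = b * a := by
    have hlt : ⁅M, M⁆ < M := Group.IsSolvable.commutator_lt_of_ne_bot hna
    have hn : (⁅M, M⁆ : Subgroup G).Normal := inferInstance
    have hbot : ⁅M, M⁆ = ⊥ := by
      by_contra h
      exact absurd (hmin _ hn h) (not_le_of_gt hlt)
    intro a ha b hb
    have := Subgroup.commutator_mem_commutator ha hb
    rw [hbot, Subgroup.mem_bot, commutatorElement_eq_one_iff_mul_comm] at this
    exact this
  -- (b) the prime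
  have hMnt : Nontrivial M := (Subgroup.nontrivial_iff_ne_bot M).mpr hna
  have hcard1 : Nat.card M ≠ 1 := by
    intro h
    exact hna ((Subgroup.card_eq_one).mp h)
  obtain ⟨p, hp, hpd⟩ := Nat.exists_prime_and_dvd hcard1
  have : Fact p.Prime := ⟨hp⟩
  obtain ⟨x0, hx0⟩ := exists_prime_orderOf_dvd_card' (G := M) p hpd
  let Om : Subgroup G :=
    { carrier := {x | x ∈ M ∧ x ^ p = 1}
      mul_mem' := by
        rintro a b ⟨ha, ha'⟩ ⟨hb, hb'⟩
        refine ⟨M.mul_mem ha hb, ?_⟩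
        have hc : Commute a b := hab a ha b hb
        rw [hc.mul_pow, ha', hb', one_mul]
      one_mem' := ⟨M.one_mem, one_pow _⟩
      inv_mem' := by
        rintro a ⟨ha, ha'⟩
        exact ⟨M.inv_mem ha, by rw [inv_pow, ha', inv_one]⟩ }
  have hOmn : Om.Normal := by
    refine ⟨fun n hn g => ?_⟩
    obtain ⟨h1, h2⟩ := hn
    refine ⟨hMn.conj_mem n h1 g, ?_⟩
    rw [conj_pow, h2, mul_one, mul_inv_cancel]
  have hOmne : Om ≠ ⊥ := by
    intro h
    have h1 : (x0 : G) ∈ Om := by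
      refine ⟨x0.2, ?_⟩
      have : x0 ^ p = 1 := by rw [← hx0]; exact pow_orderOf_eq_one x0
      have h2 := congrArg (Subtype.val) this
      simpa using h2
    rw [h, Subgroup.mem_bot] at h1
    have h2 : x0 = 1 := Subtype.ext h1
    rw [h2, orderOf_one] at hx0
    exact hp.one_lt.ne hx0
  have hexp : ∀ x ∈ M, x ^ p = 1 := fun x hx => (hmin Om hOmn hOmne hx).2
  have hMp : IsPGroup p M := by
    intro g
    refine ⟨1, ?_⟩
    apply Subtype.ext
    simpa using hexp g g.2
  obtain ⟨k, hk⟩ := IsPGroup.iff_card.mp hMp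
  refine ⟨p, hp, ?_⟩
  by_cases hZ : Subgroup.center G = ⊥
  · -- (d)
    right
    refine ⟨⟨k, hk⟩, hab, ?_⟩
    let CM : G → Subgroup G := fun t =>
      { carrier := {n | n ∈ M ∧ t * n = n * t}
        mul_mem' := by
          rintro a b ⟨ha, ha'⟩ ⟨hb, hb'⟩
          refine ⟨M.mul_mem ha hb, ?_⟩
          rw [← mul_assoc, ha', mul_assoc, hb', mul_assoc]
        one_mem' := ⟨M.one_mem, by simp⟩
        inv_mem' := by
          rintro a ⟨ha, ha'⟩
          refine ⟨M.inv_mem ha, ?_⟩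
          have : a⁻¹ * (t * a) * a⁻¹ = a⁻¹ * (a * t) * a⁻¹ := by rw [ha']
          simpa [mul_assoc] using this.symm }
    have hCMn : ∀ t, (CM t).Normal := by
      intro t
      refine ⟨fun n hn g => ?_⟩
      obtain ⟨h1, h2⟩ := hn
      refine ⟨hMn.conj_mem n h1 g, ?_⟩
      have hc : t⁻¹ * g⁻¹ * t * g ∈ M := by simpa using hcomm t⁻¹ g⁻¹
      have hcn := hab _ hc n h1
      -- g⁻¹ t g = t c
      have e1 : g⁻¹ * t * g = t * (t⁻¹ * g⁻¹ * t * g) := by group
      have e2 : (g⁻¹ * t * g) * n = n * (g⁻¹ * t * g) := by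
        rw [e1, mul_assoc, hcn, ← mul_assoc, h2, mul_assoc]
      calc t * (g * n * g⁻¹) = g * ((g⁻¹ * t * g) * n) * g⁻¹ := by group
        _ = g * (n * (g⁻¹ * t * g)) * g⁻¹ := by rw [e2]
        _ = g * n * g⁻¹ * t := by group
    have hCMd : ∀ t, CM t = ⊥ ∨ ∀ m ∈ M, t * m = m * t := by
      intro t
      by_cases h : CM t = ⊥
      · exact Or.inl h
      · exact Or.inr fun m hm => (hmin _ (hCMn t) h hm).2
    obtain ⟨h, hh⟩ : ∃ h : G, ¬ ∀ m ∈ M, h * m = m * h := by
      by_contra hcon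
      push Not at hcon
      apply hna
      rw [eq_bot_iff, ← hZ]
      intro m hm
      rw [Subgroup.mem_center_iff]
      intro g
      exact hcon g m hm
    have hCh : CM h = ⊥ := (hCMd h).resolve_right hh
    let f : M → M := fun m => ⟨h * m * h⁻¹ * (m : G)⁻¹, hcomm h m⟩
    have hfinj : Function.Injective f := by
      intro m m' hmm
      have h1 : h * m * h⁻¹ * (m : G)⁻¹ = h * m' * h⁻¹ * (m' : G)⁻¹ := congrArg Subtype.val hmm
      have h2 : (m' : G)⁻¹ * m ∈ CM h := by
        refine ⟨M.mul_mem (M.inv_mem m'.2) m.2, ?_⟩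
        have e1 : h * (m : G) = h * m' * h⁻¹ * (m' : G)⁻¹ * m * h := by
          rw [← h1]; group
        calc h * ((m' : G)⁻¹ * m) = (h * (m' : G)⁻¹ * h⁻¹) * (h * m) := by group
          _ = (h * (m' : G)⁻¹ * h⁻¹) * (h * m' * h⁻¹ * (m' : G)⁻¹ * m * h) := by rw [← e1]
          _ = (m' : G)⁻¹ * m * h := by group
      rw [hCh, Subgroup.mem_bot] at h2
      apply Subtype.ext
      have := inv_mul_eq_one.mp h2
      exact this.symm
    have hfsurj : Function.Surjective f := Finite.injective_iff_surjective.mp hfinj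
    -- (d3)
    have hd3 : ∀ c : G, (∀ m ∈ M, c * m = m * c) → c ∈ M := by
      intro c hc
      obtain ⟨m0, hm0⟩ := hfsurj ⟨h * c * h⁻¹ * c⁻¹, hcomm h c⟩
      have hm0' : h * m0 * h⁻¹ * (m0 : G)⁻¹ = h * c * h⁻¹ * c⁻¹ := congrArg Subtype.val hm0
      obtain ⟨c', hc'def⟩ : ∃ c' : G, c' = (m0 : G)⁻¹ * c := ⟨_, rfl⟩
      have hc'M : ∀ m ∈ M, c' * m = m * c' := by
        intro m hm
        rw [hc'def, mul_assoc, hc m hm, ← mul_assoc, hab _ (M.inv_mem m0.2) m hm, mul_assoc]
      have hhc' : h * c' * h⁻¹ = c' := by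
        have e1 : h * (m0 : G) * h⁻¹ = h * c * h⁻¹ * c⁻¹ * m0 := by
          rw [← hm0']; group
        calc h * c' * h⁻¹ = (h * (m0 : G) * h⁻¹)⁻¹ * (h * c * h⁻¹) := by rw [hc'def]; group
          _ = (h * c * h⁻¹ * c⁻¹ * m0)⁻¹ * (h * c * h⁻¹) := by rw [e1]
          _ = c' := by rw [hc'def]; group
      have hcen : c' ∈ Subgroup.center G := by
        rw [Subgroup.mem_center_iff]
        intro g
        have hw : g * c' * g⁻¹ * c'⁻¹ ∈ CM h := by
          refine ⟨hcomm g c', ?_⟩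
          have hd : h * g * h⁻¹ * g⁻¹ ∈ M := hcomm h g
          -- g c' g⁻¹ centralizes M
          have hgc : ∀ m ∈ M, (g * c' * g⁻¹) * m = m * (g * c' * g⁻¹) := by
            intro m hm
            have hm' : g⁻¹ * m * g ∈ M := by simpa using hMn.conj_mem m hm g⁻¹
            have := hc'M _ hm'
            calc (g * c' * g⁻¹) * m = g * (c' * (g⁻¹ * m * g)) * g⁻¹ := by group
              _ = g * ((g⁻¹ * m * g) * c') * g⁻¹ := by rw [this]
              _ = m * (g * c' * g⁻¹) := by group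
          have e2 := hgc _ hd
          have e3 : h * (g * c' * g⁻¹ * c'⁻¹) * h⁻¹ = g * c' * g⁻¹ * c'⁻¹ := by
            calc h * (g * c' * g⁻¹ * c'⁻¹) * h⁻¹
                = (h * g * h⁻¹ * g⁻¹) * g * (h * c' * h⁻¹) * g⁻¹ * (h * g * h⁻¹ * g⁻¹)⁻¹
                    * (h * c' * h⁻¹)⁻¹ := by group
              _ = ((h * g * h⁻¹ * g⁻¹) * (g * c' * g⁻¹)) * (h * g * h⁻¹ * g⁻¹)⁻¹ * c'⁻¹ := by
                    rw [hhc']; group
              _ = ((g * c' * g⁻¹) * (h * g * h⁻¹ * g⁻¹)) * (h * g * h⁻¹ * g⁻¹)⁻¹ * c'⁻¹ := by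
                    rw [e2]
              _ = g * c' * g⁻¹ * c'⁻¹ := by group
          calc h * (g * c' * g⁻¹ * c'⁻¹) = (h * (g * c' * g⁻¹ * c'⁻¹) * h⁻¹) * h := by group
            _ = g * c' * g⁻¹ * c'⁻¹ * h := by rw [e3]
        rw [hCh, Subgroup.mem_bot] at hw
        have : g * c' = c' * g := by
          calc g * c' = (g * c' * g⁻¹ * c'⁻¹) * c' * g := by group
            _ = c' * g := by rw [hw, one_mul]
        exact this
      rw [hZ, Subgroup.mem_bot] at hcen
      have : c = m0 := by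
        rw [hc'def] at hcen
        exact (inv_mul_eq_one.mp hcen).symm
      rw [this]
      exact m0.2
    intro t ht n hn htn
    have hCt : CM t = ⊥ := (hCMd t).resolve_right fun hc => ht (hd3 t hc)
    have : n ∈ CM t := by
      refine ⟨hn, ?_⟩
      calc t * n = (t * n * t⁻¹ * n⁻¹) * n * t := by group
        _ = n * t := by rw [htn, one_mul]
    rw [hCt, Subgroup.mem_bot] at this
    exact this
  · -- (c)
    left
    have hMZ : M ≤ Subgroup.center G := hmin _ inferInstance hZ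
    refine ⟨_, Nat.eq_prime_pow_of_unique_prime_dvd (p := p) Nat.card_pos.ne' ?_⟩
    intro q hq hqd
    by_contra hqp
    have : Fact q.Prime := ⟨hq⟩
    obtain ⟨x, hx⟩ := exists_prime_orderOf_dvd_card' (G := G) q hqd
    have hxq : x ^ q = 1 := by rw [← hx]; exact pow_orderOf_eq_one x
    have hcop : Nat.Coprime q p := (Nat.coprime_primes hq hp).mpr hqp
    have hxc : x ∈ Subgroup.center G := by
      rw [Subgroup.mem_center_iff]
      intro g
      have hc : g * x * g⁻¹ * x⁻¹ ∈ M := hcomm g x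
      have hcz := hMZ hc
      rw [Subgroup.mem_center_iff] at hcz
      have hcx : Commute (g * x * g⁻¹ * x⁻¹) x := (hcz x).symm
      have e1 : (g * x * g⁻¹ * x⁻¹) ^ q = 1 := by
        have e2 : ((g * x * g⁻¹ * x⁻¹) * x) ^ q = 1 := by
          have : (g * x * g⁻¹ * x⁻¹) * x = g * x * g⁻¹ := by group
          rw [this, conj_pow, hxq, mul_one, mul_inv_cancel]
        rw [hcx.mul_pow, hxq, mul_one] at e2
        exact e2
      have e3 := hexp _ hc
      have e4 : orderOf (g * x * g⁻¹ * x⁻¹) ∣ Nat.gcd q p :=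
        Nat.dvd_gcd (orderOf_dvd_of_pow_eq_one e1) (orderOf_dvd_of_pow_eq_one e3)
      rw [hcop.gcd_eq_one, Nat.dvd_one, orderOf_eq_one_iff] at e4
      calc g * x = (g * x * g⁻¹ * x⁻¹) * x * g := by group
        _ = x * g := by rw [e4, one_mul]
    have hle : Subgroup.zpowers x ≤ Subgroup.center G := Subgroup.zpowers_le.mpr hxc
    have hzn : (Subgroup.zpowers x).Normal := by
      refine ⟨fun n hn g => ?_⟩
      have h1 := hle hn
      rw [Subgroup.mem_center_iff] at h1
      rw [h1 g, mul_assoc, mul_inv_cancel, mul_one]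
      exact hn
    have hzne : Subgroup.zpowers x ≠ ⊥ := by
      intro h
      rw [Subgroup.zpowers_eq_bot] at h
      rw [h, orderOf_one] at hx
      exact hq.one_lt.ne hx
    have hMz := hmin _ hzn hzne
    have h1 : (x0 : G) ∈ Subgroup.zpowers x := hMz x0.2
    obtain ⟨j, hj⟩ := Subgroup.mem_zpowers_iff.mp h1
    have e1 : (x0 : G) ^ q = 1 := by
      rw [← hj, ← zpow_natCast, ← zpow_mul, mul_comm, zpow_mul, zpow_natCast, hxq, one_zpow]
    have e3 := hexp _ x0.2
    have e4 : orderOf (x0 : G) ∣ Nat.gcd q p :=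
      Nat.dvd_gcd (orderOf_dvd_of_pow_eq_one e1) (orderOf_dvd_of_pow_eq_one e3)
    rw [hcop.gcd_eq_one, Nat.dvd_one, Subgroup.orderOf_coe, hx0] at e4
    exact hp.one_lt.ne' e4

end Cfsg.Agent.Lib.Helper81.DG
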