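import Mathlib
import Cfsg.Agent.Lib.Helper81.DGG0

set_option autoImplicit false

namespace Cfsg.Agent.Lib.Helper81.DG

/-- [G] (Isaacs, Character Theory, Lemma 12.3, group part). -/
theorem exists_section {G : Type*} [Group G] [Finite G] [Group.IsSolvable G]
    (hna : commutator G ≠ ⊥) :
    ∃ (p : ℕ) (K : Subgroup G), p.Prime ∧ K.Normal ∧
      (((∃ k : ℕ, K.index = p ^ k) ∧ ¬ commutator G ≤ K) ∨
       ∃ N : Subgroup G, N.Normal ∧ K < N ∧ N ≠ ⊤ ∧ commutator G ≤ N ∧ ⁅N, N⁆ ≤ K ∧
         (∃ k : ℕ, K.relIndex N = p ^ k) ∧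
         ∀ t : G, t ∉ N → ∀ n ∈ N, t * n * t⁻¹ * n⁻¹ ∈ K → n ∈ K) := by
  classical
  have hfin : {K : Subgroup G | K.Normal ∧ ¬ commutator G ≤ K}.Finite := Set.toFinite _
  have hne : {K : Subgroup G | K.Normal ∧ ¬ commutator G ≤ K}.Nonempty :=
    ⟨⊥, inferInstance, fun h => hna (le_bot_iff.mp h)⟩
  obtain ⟨K, ⟨hKn, hKc⟩, hKmax⟩ := hfin.exists_maximal hne
  have hsurj := QuotientGroup.mk'_surjective K
  have hcQ : commutator (G ⧸ K) = (commutator G).map (QuotientGroup.mk' K) := by
    rw [commutator_def, commutator_def, Subgroup.map_commutator,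
      Subgroup.map_top_of_surjective _ hsurj]
  have hcQne : commutator (G ⧸ K) ≠ ⊥ := by
    rw [hcQ]
    intro h
    rw [Subgroup.map_eq_bot_iff, QuotientGroup.ker_mk'] at h
    exact hKc h
  have hKmap : K.map (QuotientGroup.mk' K) = ⊥ := by
    rw [Subgroup.map_eq_bot_iff, QuotientGroup.ker_mk']
  have hKle : ∀ L : Subgroup (G ⧸ K), K ≤ L.comap (QuotientGroup.mk' K) := by
    intro L
    have := MonoidHom.ker_le_comap (QuotientGroup.mk' K) L
    rwa [QuotientGroup.ker_mk'] at this
  have hmin : ∀ L : Subgroup (G ⧸ K), L.Normal → L ≠ ⊥ → commutator (G ⧸ K) ≤ L := by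
    intro L hL hLne
    rw [hcQ, Subgroup.map_le_iff_le_comap]
    by_contra hcon
    have hmem : L.comap (QuotientGroup.mk' K) ∈ {K : Subgroup G | K.Normal ∧ ¬ commutator G ≤ K} :=
      ⟨inferInstance, hcon⟩
    have hle := hKmax hmem (hKle L)
    apply hLne
    rw [eq_bot_iff, ← hKmap, ← Subgroup.map_comap_eq_self_of_surjective hsurj L]
    exact Subgroup.map_mono hle
  obtain ⟨p, hp, h⟩ := exists_section_core hcQne hmin
  refine ⟨p, K, hp, hKn, ?_⟩
  rcases h with ⟨k, hk⟩ | ⟨⟨k, hk⟩, hab, hfix⟩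
  · left
    exact ⟨⟨k, hk⟩, hKc⟩
  · right
    refine ⟨(commutator (G ⧸ K)).comap (QuotientGroup.mk' K), inferInstance, ?_, ?_, ?_, ?_, ?_, ?_⟩
    · refine lt_of_le_of_ne (hKle _) ?_
      intro h
      apply hcQne
      rw [eq_bot_iff, ← hKmap, ← Subgroup.map_comap_eq_self_of_surjective hsurj (commutator (G ⧸ K)),
        ← h]
    · intro h
      have h1 : commutator (G ⧸ K) = ⊤ := by
        rw [← Subgroup.map_comap_eq_self_of_surjective hsurj (commutator (G ⧸ K)), h,
          Subgroup.map_top_of_surjective _ hsurj]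
      have hnt : Nontrivial (G ⧸ K) := by
        by_contra hnt
        rw [not_nontrivial_iff_subsingleton] at hnt
        exact hcQne (Subsingleton.elim _ _)
      exact (Group.IsSolvable.commutator_lt_top_of_nontrivial (G ⧸ K)).ne h1
    · rw [← Subgroup.map_le_iff_le_comap, hcQ]
    · rw [Subgroup.commutator_le]
      intro g₁ h₁ g₂ h₂
      rw [← QuotientGroup.eq_one_iff]
      have := hab _ h₁ _ h₂
      rw [← commutatorElement_eq_one_iff_mul_comm] at this
      rw [commutatorElement_def] at this ⊢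
      exact this
    · refine ⟨k, ?_⟩
      have hK : K = (⊥ : Subgroup (G ⧸ K)).comap (QuotientGroup.mk' K) := by
        rw [MonoidHom.comap_bot, QuotientGroup.ker_mk']
      have h2 : ∀ N : Subgroup G, K.relIndex N =
          ((⊥ : Subgroup (G ⧸ K)).comap (QuotientGroup.mk' K)).relIndex N := by
        intro N
        exact congrArg (fun X : Subgroup G => X.relIndex N) hK
      rw [h2, Subgroup.relIndex_comap, Subgroup.map_comap_eq_self_of_surjective hsurj,
        Subgroup.relIndex_bot_left, hk]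
    · intro t ht n hn htn
      rw [← QuotientGroup.eq_one_iff] at htn ⊢
      exact hfix (QuotientGroup.mk' K t) ht (QuotientGroup.mk' K n) hn htn

end Cfsg.Agent.Lib.Helper81.DG
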