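import Mathlib

/-!
# Feit–Higman: the idempotent argument (abstract linear algebra)
-/

set_option autoImplicit false

namespace Cfsg.Agent.Lib.Helper81.FH

open Matrix

set_option linter.unusedSectionVars false

variable {ι : Type*} [Fintype ι] [DecidableEq ι]

/-- the trace of an idempotent real matrix is a natural number. -/
theorem trace_idem_nat (e : Matrix ι ι ℝ) (he : e * e = e) : ∃ k : ℕ, e.trace = k := by
  have h1 : IsIdempotentElem (Matrix.toLin' e) := by
    show Matrix.toLin' e * Matrix.toLin' e = Matrix.toLin' e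
    rw [Module.End.mul_eq_comp, ← Matrix.toLin'_mul, he]
  have h2 := (LinearMap.IsIdempotentElem.isProj_range _ h1).trace
  rw [Matrix.trace_toLin'_eq] at h2
  exact ⟨_, h2⟩

/-- if `F * F = κ F` and `F` has non-zero rational trace then `κ` is rational. -/
theorem rat_of_mul_self_eq_smul (F : Matrix ι ι ℝ) (κ : ℝ) (n : ℚ) (hn : n ≠ 0)
    (hF : F * F = κ • F) (htr : F.trace = n) : ∃ q : ℚ, κ = q := by
  by_cases hκ : κ = 0
  · exact ⟨0, by simpa using hκ⟩
  · obtain ⟨k, hk⟩ := trace_idem_nat (κ⁻¹ • F) (by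
      rw [Matrix.smul_mul, Matrix.mul_smul, hF, smul_smul, smul_smul]
      congr 1
      field_simp)
    rw [Matrix.trace_smul, htr, smul_eq_mul] at hk
    have hn' : (n : ℝ) ≠ 0 := by exact_mod_cast hn
    have hk0 : (k : ℝ) ≠ 0 := by
      rw [← hk]; exact mul_ne_zero (inv_ne_zero hκ) hn'
    refine ⟨n / k, ?_⟩
    push_cast
    rw [eq_div_iff hk0, ← hk]
    field_simp

/-- The three-term recurrences satisfied by the (normalised) distance matrices. -/
structure Rec (A : ℕ → Matrix ι ι ℝ) (s t : ℝ) : Prop where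
  zero_mul : ∀ i, A 0 * A i = A i
  one_zero : A 1 * A 0 = A 1
  one_one : A 1 * A 1 = A 2 + (s - 1) • A 1 + (s * (t + 1)) • A 0
  one_mul : ∀ i, A 1 * A (i + 2) = A (i + 3) + (s - 1) • A (i + 2) + (s * t) • A (i + 1)

/-- The recurrences for the coefficients of an eigen-matrix. -/
structure CoeffRec (f : ℕ → ℝ) (s t lam : ℝ) : Prop where
  zero : f 0 = 1
  one : s * (t + 1) * f 1 = lam
  step : ∀ i, f i + (s - 1) * f (i + 1) + s * t * f (i + 2) = lam * f (i + 1)

/-- partial sums -/
noncomputable def GG (A : ℕ → Matrix ι ι ℝ) (f : ℕ → ℝ) (k : ℕ) : Matrix ι ι ℝ :=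
  ∑ i ∈ Finset.range (k + 1), f i • A i

/-- eigenvalues of `A i` on the eigen-matrix -/
noncomputable def vv (s t : ℝ) (f : ℕ → ℝ) : ℕ → ℝ
  | 0 => 1
  | (i + 1) => s * (t + 1) * (s * t) ^ i * f (i + 1)

theorem GG_succ (A : ℕ → Matrix ι ι ℝ) (f : ℕ → ℝ) (k : ℕ) :
    GG A f (k + 1) = GG A f k + f (k + 1) • A (k + 1) := by
  unfold GG
  rw [Finset.sum_range_succ]

theorem GG_rec {A : ℕ → Matrix ι ι ℝ} {s t lam : ℝ} {f : ℕ → ℝ} (hA : Rec A s t)
    (hf : CoeffRec f s t lam) (k : ℕ) :
    A 1 * GG A f (k + 1) - lam • GG A f (k + 1) =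
      f (k + 1) • A (k + 2) - (s * t * f (k + 2)) • A (k + 1) := by
  induction k with
  | zero =>
    have h0 : GG A f (0 + 1) = f 0 • A 0 + f 1 • A 1 := by
      simp [GG, Finset.sum_range_succ]
    rw [h0, Matrix.mul_add, Matrix.mul_smul, Matrix.mul_smul, hA.one_zero, hA.one_one, hf.zero]
    have e1 := hf.one
    have e2 := hf.step 0
    rw [hf.zero] at e2
    simp only [zero_add]
    have e3 : s * t * f 2 = lam * f 1 - 1 - (s - 1) * f 1 := by linarith
    rw [e3, ← e1]
    module
  | succ k ih =>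
    rw [GG_succ, Matrix.mul_add, Matrix.mul_smul, hA.one_mul k]
    have ih' : A 1 * GG A f (k + 1) = lam • GG A f (k + 1) +
        (f (k + 1) • A (k + 2) - (s * t * f (k + 2)) • A (k + 1)) := by rw [← ih]; abel
    have e2 := hf.step (k + 1)
    have e3 : s * t * f (k + 1 + 2) = lam * f (k + 1 + 1) - f (k + 1) - (s - 1) * f (k + 1 + 1) := by
      linarith
    rw [ih', e3]
    module

theorem act {A : ℕ → Matrix ι ι ℝ} {s t lam : ℝ} {f : ℕ → ℝ} (hA : Rec A s t)
    (hf : CoeffRec f s t lam) {F : Matrix ι ι ℝ} (h0 : A 0 * F = F) (h1 : A 1 * F = lam • F) :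
    ∀ i, A i * F = vv s t f i • F := by
  have key : ∀ i, A (i + 1) * F = vv s t f (i + 1) • F ∧ A (i + 2) * F = vv s t f (i + 2) • F := by
    intro i
    induction i with
    | zero =>
      have a1 : A 1 * F = vv s t f 1 • F := by
        rw [h1]; congr 1
        simp [vv, hf.one]
      refine ⟨a1, ?_⟩
      have e : A 2 = A 1 * A 1 - (s - 1) • A 1 - (s * (t + 1)) • A 0 := by
        rw [hA.one_one]; module
      show A 2 * F = vv s t f 2 • F
      rw [e, Matrix.sub_mul, Matrix.sub_mul, Matrix.mul_assoc, Matrix.smul_mul, Matrix.smul_mul, h0, h1,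
        Matrix.mul_smul, h1]
      have e2 := hf.step 0
      rw [hf.zero] at e2
      have e1 := hf.one
      have : vv s t f 2 = lam * lam - (s - 1) * lam - s * (t + 1) := by
        simp only [vv, pow_one]
        have : s * t * f (0 + 2) = lam * f 1 - 1 - (s - 1) * f 1 := by
          simp only [zero_add] at e2 ⊢; linarith
        simp only [zero_add] at this
        calc s * (t + 1) * (s * t) * f (1 + 1) = s * (t + 1) * (s * t * f 2) := by ring
          _ = s * (t + 1) * (lam * f 1 - 1 - (s - 1) * f 1) := by rw [this]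
          _ = lam * (s * (t + 1) * f 1) - s * (t + 1) - (s - 1) * (s * (t + 1) * f 1) := by ring
          _ = _ := by rw [e1]; ring
      rw [this]
      module
    | succ i ih =>
      obtain ⟨a1, a2⟩ := ih
      refine ⟨a2, ?_⟩
      have e : A (i + 3) = A 1 * A (i + 2) - (s - 1) • A (i + 2) - (s * t) • A (i + 1) := by
        rw [hA.one_mul i]; module
      show A (i + 3) * F = vv s t f (i + 3) • F
      rw [e, Matrix.sub_mul, Matrix.sub_mul, Matrix.mul_assoc, Matrix.smul_mul, Matrix.smul_mul, a1, a2,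
        Matrix.mul_smul, h1]
      have e2 := hf.step (i + 1)
      have : vv s t f (i + 3) = vv s t f (i + 2) * lam - (s - 1) * vv s t f (i + 2)
          - s * t * vv s t f (i + 1) := by
        simp only [vv]
        have e3 : s * t * f (i + 1 + 2) = lam * f (i + 1 + 1) - f (i + 1) - (s - 1) * f (i + 1 + 1) := by
          linarith
        calc s * (t + 1) * (s * t) ^ (i + 2) * f (i + 2 + 1)
            = s * (t + 1) * (s * t) ^ (i + 1) * (s * t * f (i + 1 + 2)) := by ring
          _ = _ := by rw [e3]; ring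
      rw [this]
      module
  intro i
  rcases i with _ | i
  · simpa [vv] using h0
  · exact (key i).1

theorem trace_GG {A : ℕ → Matrix ι ι ℝ} {f : ℕ → ℝ} (hf0 : f 0 = 1) (k : ℕ)
    (htr : ∀ i, 1 ≤ i → i ≤ k → (A i).trace = 0) : (GG A f k).trace = (A 0).trace := by
  induction k with
  | zero => simp [GG, hf0]
  | succ k ih =>
    rw [GG_succ, Matrix.trace_add, Matrix.trace_smul, htr (k + 1) (by omega) le_rfl,
      ih (fun i h1 h2 => htr i h1 (by omega))]
    simp

theorem GG_mul {A : ℕ → Matrix ι ι ℝ} {f v : ℕ → ℝ} {F : Matrix ι ι ℝ}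
    (h : ∀ i, A i * F = v i • F) (k : ℕ) :
    GG A f k * F = (∑ i ∈ Finset.range (k + 1), f i * v i) • F := by
  unfold GG
  rw [Finset.sum_mul, Finset.sum_smul]
  refine Finset.sum_congr rfl fun i _ => ?_
  rw [Matrix.smul_mul, h i, smul_smul]

theorem zero_mul_GG {A : ℕ → Matrix ι ι ℝ} {f : ℕ → ℝ} (h : ∀ i, A 0 * A i = A i) (k : ℕ) :
    A 0 * GG A f k = GG A f k := by
  unfold GG
  rw [Finset.mul_sum]
  refine Finset.sum_congr rfl fun i _ => ?_
  rw [Matrix.mul_smul, h i]

/-- **Even case** `m = 2 (k + 2)`: the number `κ` is rational. -/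
theorem kappa_even_rat {A : ℕ → Matrix ι ι ℝ} {s t lam : ℝ} {f : ℕ → ℝ} (hA : Rec A s t)
    (hf : CoeffRec f s t lam) (k : ℕ) (ht : 1 + t ≠ 0)
    (hclose : A (k + 3) = (s * t ^ 2) • A (k + 1) + ((s - 1) * t) • A (k + 2))
    (n : ℚ) (hn : n ≠ 0) (htr0 : (A 0).trace = n)
    (htr : ∀ i, 1 ≤ i → i ≤ k + 2 → (A i).trace = 0)
    (hbc : (1 + t) * f (k + 1) + ((s - 1) * (t + 1) - lam) * f (k + 2) = 0) :
    ∃ q : ℚ, (∑ i ∈ Finset.range (k + 2), f i * vv s t f i) +
      f (k + 2) / (1 + t) * vv s t f (k + 2) = q := by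
  set g : ℝ := f (k + 2) / (1 + t) with hg
  set F : Matrix ι ι ℝ := GG A f (k + 1) + g • A (k + 2) with hF
  have hg' : g * (1 + t) = f (k + 2) := by rw [hg]; field_simp
  have h0 : A 0 * F = F := by
    rw [hF, Matrix.mul_add, zero_mul_GG hA.zero_mul, Matrix.mul_smul, hA.zero_mul]
  have h1 : A 1 * F = lam • F := by
    have e := GG_rec hA hf k
    have e' : A 1 * GG A f (k + 1) = lam • GG A f (k + 1) +
        (f (k + 1) • A (k + 2) - (s * t * f (k + 2)) • A (k + 1)) := by rw [← e]; abel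
    rw [hF, Matrix.mul_add, Matrix.mul_smul, hA.one_mul k, hclose, e', ← hg']
    have hb : f (k + 1) = - (((s - 1) * (t + 1) - lam) * g) := by
      have : (1 + t) * (f (k + 1) + ((s - 1) * (t + 1) - lam) * g) = 0 := by
        rw [← hg'] at hbc; linarith
      have := (mul_eq_zero.1 this).resolve_left ht
      linarith
    rw [hb]
    module
  have hact := act hA hf h0 h1
  have hFF : F * F = ((∑ i ∈ Finset.range (k + 2), f i * vv s t f i) + g * vv s t f (k + 2)) • F := by
    conv_lhs => rw [hF]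
    rw [Matrix.add_mul, GG_mul hact, Matrix.smul_mul, hact, smul_smul, ← add_smul]
  have htrF : F.trace = n := by
    rw [hF, Matrix.trace_add, Matrix.trace_smul, htr (k + 2) (by omega) le_rfl,
      trace_GG hf.zero (k + 1) (fun i a b => htr i a (by omega)), htr0]
    simp
  exact rat_of_mul_self_eq_smul F _ n hn hFF htrF

/-- **Odd case** `m = 2 (k + 1) + 1`, `s = t`: the number `κ` is rational. -/
theorem kappa_odd_rat {A : ℕ → Matrix ι ι ℝ} {s lam : ℝ} {f : ℕ → ℝ} (hA : Rec A s s)
    (hf : CoeffRec f s s lam) (k : ℕ)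
    (hclose : A (k + 2) = (s ^ 2) • A (k + 1))
    (n : ℚ) (hn : n ≠ 0) (htr0 : (A 0).trace = n)
    (htr : ∀ i, 1 ≤ i → i ≤ k + 1 → (A i).trace = 0)
    (hbc : f (k + 2) = f (k + 1)) :
    ∃ q : ℚ, (∑ i ∈ Finset.range (k + 2), f i * vv s s f i) = q := by
  set F : Matrix ι ι ℝ := GG A f (k + 1) with hF
  have h0 : A 0 * F = F := zero_mul_GG hA.zero_mul _
  have h1 : A 1 * F = lam • F := by
    have e := GG_rec hA hf k
    have e' : A 1 * GG A f (k + 1) = lam • GG A f (k + 1) +
        (f (k + 1) • A (k + 2) - (s * s * f (k + 2)) • A (k + 1)) := by rw [← e]; abel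
    rw [hF, e', hclose, hbc]
    module
  have hact := act hA hf h0 h1
  have hFF : F * F = (∑ i ∈ Finset.range (k + 2), f i * vv s s f i) • F := by
    conv_lhs => rw [hF]
    rw [GG_mul hact]
  have htrF : F.trace = n := by
    rw [hF, trace_GG hf.zero (k + 1) htr, htr0]
  exact rat_of_mul_self_eq_smul F _ n hn hFF htrF

end Cfsg.Agent.Lib.Helper81.FH
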