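import Cfsg.Agent.Lib.Helper81.FHIdem

/-!
# Feit–Higman: closed form of `κ`
-/

set_option autoImplicit false

namespace Cfsg.Agent.Lib.Helper81.FH

open Real

section abstract_w

variable {w : ℕ → ℝ} {c : ℝ}

theorem w_inv (hw : ∀ i, w (i + 2) = c * w (i + 1) - w i) (i : ℕ) :
    w i ^ 2 + w (i + 1) ^ 2 - c * w i * w (i + 1) = w 0 ^ 2 + w 1 ^ 2 - c * w 0 * w 1 := by
  induction i with
  | zero => rfl
  | succ i ih =>
    rw [← ih, hw i]; ring

theorem w_sum (hw : ∀ i, w (i + 2) = c * w (i + 1) - w i) (k : ℕ) :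
    (4 - c ^ 2) * ∑ i ∈ Finset.range k, w (i + 1) ^ 2 =
      2 * (k + 1) * (w 0 ^ 2 + w 1 ^ 2 - c * w 0 * w 1) - 2 * w 0 ^ 2 - 2 * w (k + 1) ^ 2 +
        c * (w 0 * w 1 + w k * w (k + 1)) := by
  induction k with
  | zero => simp; ring
  | succ k ih =>
    rw [Finset.sum_range_succ, mul_add, ih]
    have h1 := w_inv hw (k + 1)
    have h2 := hw k
    push_cast
    rw [show k + 1 + 1 = k + 2 from rfl] at h1 ⊢
    have h3 : w 0 ^ 2 + w 1 ^ 2 - c * w 0 * w 1 = w (k + 1) ^ 2 + w (k + 2) ^ 2 - c * w (k + 1) * w (k + 2) :=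
      h1.symm
    have : w k = c * w (k + 1) - w (k + 2) := by rw [h2]; ring
    rw [this]
    linear_combination (-2 : ℝ) * h3

end abstract_w

/-- the coefficient sequence attached to `w`. -/
theorem coeffRec_of_w {w : ℕ → ℝ} {c s t x lam : ℝ} (hw : ∀ i, w (i + 2) = c * w (i + 1) - w i)
    (hx : x ≠ 0) (hxx : x ^ 2 = s * t) (hlam : lam = s - 1 + x * c) (h0 : w 0 = 1)
    (h1 : s * (t + 1) * w 1 = x * lam) :
    CoeffRec (fun i => w i / x ^ i) s t lam where
  zero := by simp [h0]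
  one := by
    simp only [pow_one]
    rw [← mul_div_assoc, h1]; field_simp
  step := by
    intro i
    rw [hw i, ← hxx, hlam]
    field_simp
    ring

theorem f_mul_vv {w : ℕ → ℝ} {s t x : ℝ} (hx : x ≠ 0) (hxx : x ^ 2 = s * t) (ht : t ≠ 0) (i : ℕ) :
    (w (i + 1) / x ^ (i + 1)) * vv s t (fun i => w i / x ^ i) (i + 1) = (t + 1) / t * w (i + 1) ^ 2 := by
  simp only [vv]
  rw [← hxx]
  have hs : s = x ^ 2 / t := by rw [hxx]; field_simp
  rw [hs]
  field_simp
  ring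

/-- `s (t+1)^2 Q = (s + t + x c) (s t + 1 - x c)`. -/
theorem Q_formula {c s t x lam w1 : ℝ} (hxx : x ^ 2 = s * t) (hlam : lam = s - 1 + x * c)
    (hs : s ≠ 0) (h1 : s * (t + 1) * w1 = x * lam) :
    s * (t + 1) ^ 2 * (1 + w1 ^ 2 - c * w1) = (s + t + x * c) * (s * t + 1 - x * c) := by
  have e1 : s * (t + 1) ^ 2 * w1 ^ 2 = t * lam ^ 2 := by
    have : s * (s * (t + 1) ^ 2 * w1 ^ 2) = s * (t * lam ^ 2) := by
      calc s * (s * (t + 1) ^ 2 * w1 ^ 2) = (s * (t + 1) * w1) ^ 2 := by ring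
        _ = x ^ 2 * lam ^ 2 := by rw [h1]; ring
        _ = _ := by rw [hxx]; ring
    exact mul_left_cancel₀ hs this
  have e2 : s * (t + 1) ^ 2 * (c * w1) = (t + 1) * (x * c) * lam := by
    calc s * (t + 1) ^ 2 * (c * w1) = (t + 1) * c * (s * (t + 1) * w1) := by ring
      _ = _ := by rw [h1]; ring
  calc s * (t + 1) ^ 2 * (1 + w1 ^ 2 - c * w1)
      = s * (t + 1) ^ 2 + s * (t + 1) ^ 2 * w1 ^ 2 - s * (t + 1) ^ 2 * (c * w1) := by ring
    _ = s * (t + 1) ^ 2 + t * lam ^ 2 - (t + 1) * (x * c) * lam := by rw [e1, e2]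
    _ = _ := by rw [hlam]; ring

theorem kappa_even_formula {w : ℕ → ℝ} {c s t x lam ε : ℝ}
    (hw : ∀ i, w (i + 2) = c * w (i + 1) - w i)
    (hx : 0 < x) (hxx : x ^ 2 = s * t) (hlam : lam = s - 1 + x * c) (h0 : w 0 = 1)
    (h1 : s * (t + 1) * w 1 = x * lam) (hs : 0 < s) (ht : 0 < t) (k : ℕ)
    (hε : ε ^ 2 = 1) (hd : w (k + 2) = ε) (hd1 : w (k + 3) = ε * w 1) (hc : c ^ 2 < 4) :
    ((1 + t) * (w (k + 1) / x ^ (k + 1)) + ((s - 1) * (t + 1) - lam) * (w (k + 2) / x ^ (k + 2)) = 0) ∧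
    (∑ i ∈ Finset.range (k + 2), (w i / x ^ i) * vv s t (fun i => w i / x ^ i) i) +
      (w (k + 2) / x ^ (k + 2)) / (1 + t) * vv s t (fun i => w i / x ^ i) (k + 2)
      = (k + 2) * ((s + t + x * c) * (s * t + 1 - x * c)) / (2 * (t + 1) * (s * t - (x * c / 2) ^ 2)) := by
  have hwk : w (k + 1) = ε * (c - w 1) := by
    have := hw (k + 1)
    rw [show k + 1 + 2 = k + 3 from rfl, show k + 1 + 1 = k + 2 from rfl, hd, hd1] at this
    linarith
  constructor
  · rw [hwk, hd]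
    have hx0 : x ≠ 0 := hx.ne'
    have e : (1 + t) * x * (c - w 1) + ((s - 1) * (t + 1) - lam) = 0 := by
      have e1 : s * ((1 + t) * x * w 1) = s * (t * lam) := by
        calc s * ((1 + t) * x * w 1) = x * (s * (t + 1) * w 1) := by ring
          _ = x ^ 2 * lam := by rw [h1]; ring
          _ = _ := by rw [hxx]; ring
      have e2 := mul_left_cancel₀ hs.ne' e1
      have : (1 + t) * x * (c - w 1) = (1 + t) * (x * c) - (1 + t) * x * w 1 := by ring
      rw [this, e2, hlam]; ring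
    have : (1 + t) * (ε * (c - w 1) / x ^ (k + 1)) + ((s - 1) * (t + 1) - lam) * (ε / x ^ (k + 2)) =
        ε / x ^ (k + 2) * ((1 + t) * x * (c - w 1) + ((s - 1) * (t + 1) - lam)) := by
      field_simp
      ring
    rw [this, e, mul_zero]
  · have hx0 : x ≠ 0 := hx.ne'
    rw [Finset.sum_range_succ']
    have hsum : ∑ i ∈ Finset.range (k + 1), (w (i + 1) / x ^ (i + 1)) * vv s t (fun i => w i / x ^ i) (i + 1)
        = (t + 1) / t * ∑ i ∈ Finset.range (k + 1), w (i + 1) ^ 2 := by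
      rw [Finset.mul_sum]
      exact Finset.sum_congr rfl fun i _ => f_mul_vv hx0 hxx ht.ne' i
    rw [hsum]
    have hlast : (w (k + 2) / x ^ (k + 2)) / (1 + t) * vv s t (fun i => w i / x ^ i) (k + 2) = 1 / t := by
      have := f_mul_vv (w := w) hx0 hxx ht.ne' (k + 1)
      rw [show k + 1 + 1 = k + 2 from rfl] at this
      rw [div_mul_eq_mul_div, this, hd, hε]
      have : (1 + t) ≠ 0 := by positivity
      field_simp
      ring
    rw [hlast]
    have hS := w_sum hw (k + 1)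
    rw [show k + 1 + 1 = k + 2 from rfl, hd, hwk, h0] at hS
    have hQ := Q_formula (c := c) hxx hlam hs.ne' h1
    set Sg := ∑ i ∈ Finset.range (k + 1), w (i + 1) ^ 2 with hSg0
    set Q := 1 + w 1 ^ 2 - c * w 1 with hQdef
    have hS' : (4 - c ^ 2) * Sg = 2 * (k + 2) * Q - (4 - c ^ 2) := by
      have : ε * (c - w 1) * ε = ε ^ 2 * (c - w 1) := by ring
      rw [this, hε] at hS
      push_cast at hS
      rw [hS, hQdef]; ring
    have h4 : 0 < 4 - c ^ 2 := by linarith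
    have hSg : Sg = 2 * (k + 2) * Q / (4 - c ^ 2) - 1 := by
      field_simp
      linarith
    have hden : s * t - (x * c / 2) ^ 2 = s * t * (4 - c ^ 2) / 4 := by
      rw [div_pow, mul_pow, hxx]; ring
    have hQ' : Q = (s + t + x * c) * (s * t + 1 - x * c) / (s * (t + 1) ^ 2) := by
      rw [← hQ]
      have : (t + 1) ≠ 0 := by positivity
      field_simp
    simp only [vv, pow_zero, h0, div_one, mul_one]
    rw [hSg, hden, hQ']
    have : (t + 1) ≠ 0 := by positivity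
    field_simp
    ring

end Cfsg.Agent.Lib.Helper81.FH
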