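import Mathlib
import Cfsg.Agent.Lib.Helper9.NPStable
import Cfsg.Agent.Lib.Helper84.FusionBasic
import Cfsg.Agent.Lib.Helper85.GroupFus
import Cfsg.Agent.Lib.Helper65.PSQQC

/-! Piece A of helper76's FS farm: `p`-stability of a group (normalizer form) versus `p`-stability of its
fusion system. -/

set_option autoImplicit false

namespace Cfsg.Agent.Lib.Helper81.FS

open Cfsg Cfsg.FusionSystem
open scoped commutatorElement

section
variable {Ω : Type*} [Group Ω]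

/-- the conclusion of `NPS` -/
def Good (p : ℕ) (T : Subgroup Ω) (k : Ω) : Prop :=
  ∃ D : Subgroup Ω, k ∈ D ∧ D ≤ Subgroup.normalizer (T : Set Ω) ∧
      Subgroup.normalizer (T : Set Ω) ≤ Subgroup.normalizer (D : Set Ω) ∧
      ∀ d ∈ D, ∃ j : ℕ, d ^ (p ^ j) ∈ Subgroup.centralizer (T : Set Ω)

theorem nmh_apply (Q : Subgroup Ω) (n : ↥(Subgroup.normalizer (Q : Set Ω))) (x : Q) :
    ((Q.normalizerMonoidHom n x : Q) : Ω) = n * x * (n : Ω)⁻¹ := rfl

/-- K1 -/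
theorem mem_autGroup_iff_exists {P Q : Subgroup Ω} (hQ : Q ≤ P) (χ : MulAut Q) :
    χ ∈ (groupFusionSystem P).autGroup Q ↔
      ∃ n : ↥(Subgroup.normalizer (Q : Set Ω)), Q.normalizerMonoidHom n = χ := by
  rw [Cfsg.Agent.Lib.Helper84.mem_autGroup_iff _ hQ]
  constructor
  · rintro ⟨-, -, g, hg⟩
    have hg' : ∀ x : Q, ((χ x : Q) : Ω) = g * x * g⁻¹ := hg
    have hgN : g ∈ Subgroup.normalizer (Q : Set Ω) := by
      rw [Subgroup.mem_normalizer_iff]
      intro h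
      constructor
      · intro hh
        have := (χ ⟨h, hh⟩).2
        rw [hg' ⟨h, hh⟩] at this
        exact this
      · intro hh
        have h1 := hg' (χ.symm ⟨_, hh⟩)
        rw [MulEquiv.apply_symm_apply] at h1
        have h2 : h = (χ.symm ⟨_, hh⟩ : Q) := mul_left_cancel (mul_right_cancel h1)
        rw [h2]
        exact (χ.symm ⟨_, hh⟩).2
    refine ⟨⟨g, hgN⟩, ?_⟩
    ext x
    rw [nmh_apply, hg']
  · rintro ⟨n, rfl⟩
    exact ⟨hQ, fun x => hQ (Q.normalizerMonoidHom n x).2, n, fun x => rfl⟩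

/-- K2 -/
theorem quad_iff (Q : Subgroup Ω) (n : ↥(Subgroup.normalizer (Q : Set Ω))) :
    (∀ a : Q, (Q.normalizerMonoidHom n a⁻¹) * a * (Q.normalizerMonoidHom n a⁻¹) *
        (Q.normalizerMonoidHom n (Q.normalizerMonoidHom n a)) = 1) ↔
      ⁅⁅Q, Subgroup.zpowers (n : Ω)⁆, Subgroup.zpowers (n : Ω)⁆ = ⊥ := by
  obtain ⟨g, hg⟩ := n
  constructor
  · intro h
    apply Cfsg.Agent.Lib.Helper65.PSQQC.commutator_eq_bot_of_quadOn hg
    intro x hx
    have h0 := congrArg Subtype.val (h (⟨x, hx⟩ : Q)⁻¹)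
    have h1 : (g * x * g⁻¹) * x⁻¹ * (g * x * g⁻¹) * (g * (g * x⁻¹ * g⁻¹) * g⁻¹) = 1 := by
      rw [inv_inv] at h0
      exact h0
    calc g * (g * x * g⁻¹ * x⁻¹) * g⁻¹
        = ((g * x * g⁻¹) * x⁻¹ * (g * x * g⁻¹) * (g * (g * x⁻¹ * g⁻¹) * g⁻¹)) *
            (g * (g * x * g⁻¹ * x⁻¹) * g⁻¹) := by rw [h1, one_mul]
      _ = g * x * g⁻¹ * x⁻¹ := by group
  · intro h a
    apply Subtype.ext
    show (g * (a : Ω)⁻¹ * g⁻¹) * a * (g * (a : Ω)⁻¹ * g⁻¹) * (g * (g * a * g⁻¹) * g⁻¹) = 1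
    have h1 : ⁅(a : Ω)⁻¹, g⁆ ∈ ⁅Q, Subgroup.zpowers g⁆ :=
      Subgroup.commutator_mem_commutator (Q.inv_mem a.2) (Subgroup.mem_zpowers g)
    have h2 : ⁅⁅(a : Ω)⁻¹, g⁆, g⁆ ∈ ⁅⁅Q, Subgroup.zpowers g⁆, Subgroup.zpowers g⁆ :=
      Subgroup.commutator_mem_commutator h1 (Subgroup.mem_zpowers g)
    rw [h, Subgroup.mem_bot, commutatorElement_def, commutatorElement_def] at h2
    calc (g * (a : Ω)⁻¹ * g⁻¹) * a * (g * (a : Ω)⁻¹ * g⁻¹) * (g * (g * a * g⁻¹) * g⁻¹)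
        = ((a : Ω)⁻¹ * g * (a : Ω)⁻¹⁻¹ * g⁻¹)⁻¹ *
            ((a : Ω)⁻¹ * g * (a : Ω)⁻¹⁻¹ * g⁻¹ * g * ((a : Ω)⁻¹ * g * (a : Ω)⁻¹⁻¹ * g⁻¹)⁻¹ * g⁻¹)⁻¹ *
            ((a : Ω)⁻¹ * g * (a : Ω)⁻¹⁻¹ * g⁻¹) := by group
      _ = 1 := by rw [h2]; group

/-- the image of `n ∈ N(Q)` lies in `O_p(Aut_F(Q))` iff the `NPS` conclusion holds for `(Q, n)` -/
theorem mem_pCore_iff_good {p : ℕ} [Fact p.Prime] {P Q : Subgroup Ω} (hQ : Q ≤ P)
    (n : ↥(Subgroup.normalizer (Q : Set Ω))) :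
    Q.normalizerMonoidHom n ∈ ((pCore p ↥((groupFusionSystem P).autGroup Q)).map
        ((groupFusionSystem P).autGroup Q).subtype : Subgroup (MulAut ↥Q)) ↔ Good p Q n := by
  obtain ⟨A, hA⟩ : ∃ A : Subgroup (MulAut Q), A = (groupFusionSystem P).autGroup Q := ⟨_, rfl⟩
  rw [← hA]
  have hmem : ∀ m : ↥(Subgroup.normalizer (Q : Set Ω)), Q.normalizerMonoidHom m ∈ A := by
    intro m
    rw [hA]
    exact (mem_autGroup_iff_exists hQ _).mpr ⟨m, rfl⟩
  obtain ⟨c', hc'⟩ : ∃ c' : ↥(Subgroup.normalizer (Q : Set Ω)) →* A,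
      ∀ m, (c' m : MulAut Q) = Q.normalizerMonoidHom m :=
    ⟨(Q.normalizerMonoidHom).codRestrict A hmem, fun m => rfl⟩
  have hsurj : Function.Surjective c' := by
    rintro ⟨α, hα⟩
    rw [hA] at hα
    obtain ⟨m, hm⟩ := (mem_autGroup_iff_exists hQ α).mp hα
    exact ⟨m, Subtype.ext ((hc' m).trans hm)⟩
  have hker : ∀ m : ↥(Subgroup.normalizer (Q : Set Ω)), c' m = 1 ↔
      (m : Ω) ∈ Subgroup.centralizer (Q : Set Ω) := by
    intro m
    have h1 : c' m = 1 ↔ m ∈ (Q.normalizerMonoidHom).ker := by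
      rw [MonoidHom.mem_ker, ← hc' m]
      constructor
      · intro h; rw [h]; rfl
      · intro h; exact Subtype.ext h
    rw [h1, Subgroup.normalizerMonoidHom_ker, Subgroup.mem_subgroupOf]
  have hOn : (pCore p ↥A).Normal := Cfsg.Agent.Lib.Helper33.pCore_normal
  constructor
  · rintro ⟨α, hα, hαn⟩
    have hcn : c' n = α := Subtype.ext ((hc' n).trans hαn.symm)
    have hD₀n : ((pCore p ↥A).comap c').Normal := hOn.comap _
    refine ⟨((pCore p ↥A).comap c').map (Subgroup.normalizer (Q : Set Ω)).subtype,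
      ⟨n, by rw [SetLike.mem_coe, Subgroup.mem_comap, hcn]; exact hα, rfl⟩,
      Subgroup.map_subtype_le _, ?_, ?_⟩
    · rw [← Subgroup.normal_subgroupOf_iff_le_normalizer (Subgroup.map_subtype_le _)]
      have e : (((pCore p ↥A).comap c').map (Subgroup.normalizer (Q : Set Ω)).subtype).subgroupOf
          (Subgroup.normalizer (Q : Set Ω)) = (pCore p ↥A).comap c' :=
        Subgroup.comap_map_eq_self_of_injective (Subgroup.subtype_injective _) _
      rw [e]; exact hD₀n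
    · rintro _ ⟨d, hd, rfl⟩
      obtain ⟨j, hj⟩ := (Cfsg.Agent.Lib.Helper33.pCore_isPGroup (p := p) (G := ↥A)) ⟨_, hd⟩
      refine ⟨j, ?_⟩
      have hj' : (c' d) ^ (p ^ j) = 1 := congrArg Subtype.val hj
      rw [← map_pow, hker] at hj'
      exact hj'
  · rintro ⟨D, hnD, hDN, hND, hDp⟩
    have hD₀n : (D.subgroupOf (Subgroup.normalizer (Q : Set Ω))).Normal :=
      (Subgroup.normal_subgroupOf_iff_le_normalizer hDN).2 hND
    have hle : (D.subgroupOf (Subgroup.normalizer (Q : Set Ω))).map c' ≤ pCore p ↥A := by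
      apply Cfsg.Agent.Lib.Helper33.le_pCore (hD₀n.map _ hsurj)
      rintro ⟨_, m, hm, rfl⟩
      obtain ⟨j, hj⟩ := hDp m (Subgroup.mem_subgroupOf.1 hm)
      refine ⟨j, ?_⟩
      apply Subtype.ext
      change (c' m) ^ (p ^ j) = 1
      rw [← map_pow, hker]
      simpa using hj
    exact ⟨c' n, hle ⟨n, Subgroup.mem_subgroupOf.2 hnD, rfl⟩, hc' n⟩

theorem good_of_conj {p : ℕ} (T : Subgroup Ω) (k g : Ω)
    (h : Good p (T.map (MulAut.conj g).toMonoidHom) (g * k * g⁻¹)) : Good p T k := by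
  obtain ⟨D, hgD, hDN, hND, hDp⟩ := h
  have hf : Function.Injective (MulAut.conj g).toMonoidHom := (MulAut.conj g).injective
  refine ⟨D.comap (MulAut.conj g).toMonoidHom, hgD, ?_, ?_, ?_⟩
  · intro d hd
    exact (Cfsg.Agent.Lib.Helper33.mem_normalizer_map_iff hf T d).1 (hDN hd)
  · intro n hn
    exact Subgroup.le_normalizer_comap (MulAut.conj g).toMonoidHom
      (hND ((Cfsg.Agent.Lib.Helper33.mem_normalizer_map_iff hf T n).2 hn))
  · intro d hd
    obtain ⟨j, hj⟩ := hDp ((MulAut.conj g).toMonoidHom d) hd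
    refine ⟨j, ?_⟩
    rw [Subgroup.mem_centralizer_iff] at hj ⊢
    intro x hx
    apply hf
    have := hj ((MulAut.conj g).toMonoidHom x) ⟨x, hx, rfl⟩
    simpa using this

end

/-- the direction needed by S5279, S5280 -/
theorem nps_of_fusion_stable {Ω : Type*} [Group Ω] [Finite Ω] {p : ℕ} [Fact p.Prime] (P : Sylow p Ω)
    (hst : (∀ Q : Subgroup Ω, (Cfsg.groupFusionSystem (P : Subgroup Ω)).IsFullyNormalized Q → ∀ χ : MulAut ↥Q, χ ∈ (Cfsg.groupFusionSystem (P : Subgroup Ω)).autGroup Q → (∀ a : ↥Q, (χ a⁻¹) * a * (χ a⁻¹) * (χ (χ a)) = 1) → χ ∈ ((Cfsg.pCore p ↥((Cfsg.groupFusionSystem (P : Subgroup Ω)).autGroup Q)).map ((Cfsg.groupFusionSystem (P : Subgroup Ω)).autGroup Q).subtype : Subgroup (MulAut ↥Q)))) :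
    Cfsg.IsNormalizerPStable p Ω := by
  rw [Cfsg.Agent.Lib.Helper9.isNormalizerPStable_iff]
  intro T hT k hk hq
  have hne : {g : Ω | T.map (MulAut.conj g).toMonoidHom ≤ P}.Nonempty :=
    Cfsg.Agent.Lib.Helper85.Sylow.exists_conj_le' P hT
  obtain ⟨g, hg, hmax⟩ := Set.exists_max_image _
    (fun g => Nat.card (normalizerIn (P : Subgroup Ω) (T.map (MulAut.conj g).toMonoidHom)))
    (Set.toFinite _) hne
  have hg' : T.map (MulAut.conj g).toMonoidHom ≤ P := hg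
  have hfn : (groupFusionSystem (P : Subgroup Ω)).IsFullyNormalized
      (T.map (MulAut.conj g).toMonoidHom) := by
    refine ⟨hg', fun Q' hQ' => ?_⟩
    obtain ⟨-, hQ'P, h, rfl⟩ := Cfsg.Agent.Lib.Helper85.groupFus_isConj_iff.mp hQ'
    have e : (T.map (MulAut.conj g).toMonoidHom).map (MulAut.conj h).toMonoidHom =
        T.map (MulAut.conj (h * g)).toMonoidHom := by
      rw [Subgroup.map_map]
      congr 1
      ext x
      simp [mul_assoc]
    rw [e] at hQ'P ⊢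
    exact hmax (h * g) hQ'P
  have hf : Function.Injective (MulAut.conj g).toMonoidHom := (MulAut.conj g).injective
  have hkN : g * k * g⁻¹ ∈ Subgroup.normalizer ((T.map (MulAut.conj g).toMonoidHom : Subgroup Ω) : Set Ω) :=
    (Cfsg.Agent.Lib.Helper33.mem_normalizer_map_iff hf T k).2 hk
  have hq' : ⁅⁅T.map (MulAut.conj g).toMonoidHom, Subgroup.zpowers (g * k * g⁻¹)⁆,
      Subgroup.zpowers (g * k * g⁻¹)⁆ = ⊥ := by
    have e : Subgroup.zpowers (g * k * g⁻¹) =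
        (Subgroup.zpowers k).map (MulAut.conj g).toMonoidHom := by
      rw [MonoidHom.map_zpowers]; rfl
    rw [e, ← Subgroup.map_commutator, ← Subgroup.map_commutator, hq, Subgroup.map_bot]
  apply good_of_conj T k g
  have := hst _ hfn _ ((mem_autGroup_iff_exists hg' _).mpr ⟨⟨_, hkN⟩, rfl⟩)
    ((quad_iff _ ⟨_, hkN⟩).mpr hq')
  exact (mem_pCore_iff_good hg' ⟨_, hkN⟩).mp this

/-- the other direction -/
theorem fusion_stable_of_nps {Ω : Type*} [Group Ω] {p : ℕ} [Fact p.Prime] (P : Sylow p Ω)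
    (h : Cfsg.IsNormalizerPStable p Ω) :
    (∀ Q : Subgroup Ω, (Cfsg.groupFusionSystem (P : Subgroup Ω)).IsFullyNormalized Q → ∀ χ : MulAut ↥Q, χ ∈ (Cfsg.groupFusionSystem (P : Subgroup Ω)).autGroup Q → (∀ a : ↥Q, (χ a⁻¹) * a * (χ a⁻¹) * (χ (χ a)) = 1) → χ ∈ ((Cfsg.pCore p ↥((Cfsg.groupFusionSystem (P : Subgroup Ω)).autGroup Q)).map ((Cfsg.groupFusionSystem (P : Subgroup Ω)).autGroup Q).subtype : Subgroup (MulAut ↥Q))) := by
  intro Q hQ χ hχ hquad
  obtain ⟨n, rfl⟩ := (mem_autGroup_iff_exists hQ.1 χ).mp hχ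
  rw [mem_pCore_iff_good hQ.1 n]
  exact (Cfsg.Agent.Lib.Helper9.isNormalizerPStable_iff.mp h) Q (P.2.to_le hQ.1) n n.2
    ((quad_iff Q n).mp hquad)

end Cfsg.Agent.Lib.Helper81.FS
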