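import Cfsg.Agent.S0188
import Cfsg.Agent.Lib.Helper15.CharTools
import Cfsg.Agent.Lib.Helper3.IndComb
import Cfsg.Agent.Lib.Helper3.Mono2
import Cfsg.Agent.Lib.Helper81.BergerChar

/-!
# Characters of finite powers `α → M`, and M-groups
-/

set_option autoImplicit false

namespace Cfsg.Agent.Lib.Helper81

open Cfsg Cfsg.Agent.Lib Cfsg.Agent.Lib.Helper15

universe u v

/-- M-groups -/
def IsMGroup (M : Type*) [Group M] [Fintype M] : Prop :=
  ∀ χ : M → ℂ, IsIrrCharacter M χ →
    ∃ (H : Subgroup M) (lam : ↥H →* ℂˣ), χ = indFun H (fun h => (lam h : ℂ))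

/-- `(Option α → M) ≃* M × (α → M)` -/
def optionPiEquiv (M : Type*) [Group M] (α : Type*) : (Option α → M) ≃* M × (α → M) where
  toFun f := (f none, fun x => f (some x))
  invFun p := fun o => o.elim p.1 p.2
  left_inv f := by
    funext o
    cases o <;> rfl
  right_inv p := rfl
  map_mul' _ _ := rfl

/-- the irreducible characters of a finite power are products of irreducible characters -/
theorem pi_irr (M : Type v) [Group M] [Finite M] (α : Type u) [Finite α] :
    ∀ (_ : Fintype α) (θ : (α → M) → ℂ), IsIrrCharacter (α → M) θ →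
      ∃ t : α → M → ℂ, (∀ x, IsIrrCharacter M (t x)) ∧ ∀ b, θ b = ∏ x, t x (b x) := by
  induction α using Finite.induction_empty_option with
  | of_equiv e ih =>
    rename_i α β
    intro inst θ hθ
    let E : (α → M) ≃* (β → M) := MulEquiv.arrowCongr e (MulEquiv.refl M)
    have : Finite β := Finite.of_fintype β
    obtain ⟨t, ht, hθt⟩ := ih (Fintype.ofEquiv β e.symm) (θ ∘ E) (irr_comp_equiv E hθ)
    refine ⟨fun y => t (e.symm y), fun y => ht _, fun b => ?_⟩
    have h1 := hθt (E.symm b)
    have h2 : (θ ∘ E) (E.symm b) = θ b := by simp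
    rw [h2] at h1
    rw [h1]
    let _ := Fintype.ofEquiv β e.symm
    apply Fintype.prod_equiv e
    intro x
    simp [E, MulEquiv.arrowCongr]
  | h_empty =>
    intro inst θ hθ
    refine ⟨fun x => x.elim, fun x => x.elim, fun b => ?_⟩
    have hb : b = 1 := Subsingleton.elim _ _
    rw [hb, Finset.univ_eq_empty, Finset.prod_empty]
    exact Helper3.IsIrrCharacter.apply_one_eq_one_of_comm (fun a b => Subsingleton.elim _ _) hθ
  | h_option ih =>
    rename_i α instα
    intro inst θ hθ
    obtain rfl : inst = instFintypeOption := Subsingleton.elim _ _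
    let E := optionPiEquiv M α
    have h0 : IsIrrCharacter (M × (α → M)) (θ ∘ E.symm) := irr_comp_equiv E.symm hθ
    obtain ⟨φ, ψ, hφ, hψ, h1⟩ := (S0188.result _).1 h0
    obtain ⟨t, ht, hψt⟩ := ih instα ψ hψ
    refine ⟨fun o => o.elim φ t, fun o => ?_, fun b => ?_⟩
    · cases o
      · exact hφ
      · exact ht _
    · have h2 := congrFun h1 (E b)
      have h3 : (θ ∘ E.symm) (E b) = θ b := by simp
      rw [h3] at h2
      rw [h2, Fintype.prod_option, hψt]
      rfl

theorem extendByZero_pi {M : Type*} [Group M] {α : Type*} [Fintype α] (H : α → Subgroup M)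
    (lam : ∀ x, H x → ℂ) (g : α → M) :
    extendByZero (Subgroup.pi Set.univ H)
      (fun k => ∏ x, lam x ⟨k.1 x, k.2 x (Set.mem_univ x)⟩) g
      = ∏ x, extendByZero (H x) (lam x) (g x) := by
  by_cases hg : g ∈ Subgroup.pi Set.univ H
  · rw [extendByZero_mem _ _ hg]
    apply Finset.prod_congr rfl
    intro x _
    rw [extendByZero_mem _ _ (hg x (Set.mem_univ x))]
  · rw [extendByZero_not_mem _ _ hg]
    rw [Subgroup.mem_pi] at hg
    push Not at hg
    obtain ⟨x, _, hx⟩ := hg
    exact (Finset.prod_eq_zero (Finset.mem_univ x) (extendByZero_not_mem (H x) (lam x) hx)).symm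

theorem card_pi_subgroup {M : Type*} [Group M] {α : Type*} [Fintype α] (H : α → Subgroup M) :
    Nat.card (Subgroup.pi Set.univ H) = ∏ x, Nat.card (H x) := by
  rw [← Nat.card_pi]
  apply Nat.card_congr
  exact
    { toFun := fun k x => ⟨k.1 x, k.2 x (Set.mem_univ x)⟩
      invFun := fun f => ⟨fun x => f x, fun x _ => (f x).2⟩
      left_inv := fun _ => rfl
      right_inv := fun _ => rfl }

theorem sum_pi_prod {M : Type*} [Fintype M] {α : Type*} [Fintype α] [Fintype (α → M)]
    (F : α → M → ℂ) : ∑ f : α → M, ∏ x, F x (f x) = ∏ x, ∑ m : M, F x m := by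
  classical
  rw [Finset.prod_univ_sum, Fintype.piFinset_univ]
  apply Finset.sum_congr
  · ext; simp
  · intro _ _; rfl

/-- a product of induced functions is induced from the product subgroup -/
theorem pi_ind {M : Type*} [Group M] [Fintype M] {α : Type*} [Fintype α] [Fintype (α → M)]
    (H : α → Subgroup M) (lam : ∀ x, H x → ℂ) (b : α → M) :
    indFun (Subgroup.pi Set.univ H) (fun k => ∏ x, lam x ⟨k.1 x, k.2 x (Set.mem_univ x)⟩) b
      = ∏ x, indFun (H x) (lam x) (b x) := by
  simp only [indFun_apply]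
  rw [Finset.prod_mul_distrib, card_pi_subgroup, Nat.cast_prod, Finset.prod_inv_distrib,
    ← sum_pi_prod]
  congr 1
  apply Finset.sum_congr rfl
  intro f _
  rw [extendByZero_pi]
  rfl

/-- the product homomorphism on a product subgroup -/
noncomputable def piHom {M : Type*} [Group M] {α : Type*} [Fintype α] (H : α → Subgroup M)
    (lam : ∀ x, H x →* ℂˣ) : ↥(Subgroup.pi Set.univ H) →* ℂˣ where
  toFun k := ∏ x, lam x ⟨k.1 x, k.2 x (Set.mem_univ x)⟩
  map_one' := by
    apply Finset.prod_eq_one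
    intro x _
    exact map_one (lam x)
  map_mul' a b := by
    rw [← Finset.prod_mul_distrib]
    apply Finset.prod_congr rfl
    intro x _
    rw [← map_mul]
    rfl

theorem pi_mgroup {M : Type*} [Group M] [Fintype M] (hM : IsMGroup M) (α : Type*) [Fintype α]
    [Fintype (α → M)] : IsMGroup (α → M) := by
  intro θ hθ
  obtain ⟨t, ht, hθt⟩ := pi_irr M α _ θ hθ
  choose H lam hlam using fun x => hM (t x) (ht x)
  refine ⟨Subgroup.pi Set.univ H, piHom H lam, ?_⟩
  funext b
  have h1 := pi_ind H (fun x h => ((lam x h : ℂˣ) : ℂ)) b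
  rw [hθt b]
  have h2 : ∏ x, t x (b x) = ∏ x, indFun (H x) (fun h => ((lam x h : ℂˣ) : ℂ)) (b x) := by
    apply Finset.prod_congr rfl
    intro x _
    rw [hlam x]
  rw [h2, ← h1]
  congr 2
  funext k
  simp [piHom]

theorem mgroup_of_equiv {A B : Type*} [Group A] [Fintype A] [Group B] [Fintype B] (e : A ≃* B)
    (hB : IsMGroup B) : IsMGroup A := by
  intro χ hχ
  obtain ⟨H, lam, h⟩ := hB (χ ∘ e.symm) (irr_comp_equiv e.symm hχ)
  refine ⟨H.comap e.toMonoidHom, lam.comp (e.toMonoidHom.subgroupComap H), ?_⟩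
  have h1 := indFun_comap e.toMonoidHom e.surjective H (fun h => ((lam h : ℂˣ) : ℂ))
  funext a
  have h2 := congrFun h1 a
  have h3 : χ a = indFun H (fun h => ((lam h : ℂˣ) : ℂ)) (e.toMonoidHom a) := by
    rw [← h]
    simp
  rw [h3, ← h2]
  rfl

end Cfsg.Agent.Lib.Helper81
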