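import Cfsg.Agent.Lib.Helper81.PiChar
import Cfsg.Agent.Lib.Helper15.Gallagher
import Cfsg.Agent.Lib.Helper15.LinearMul
import Cfsg.Agent.Lib.Helper15.LinearHom
import Cfsg.Agent.Lib.Helper15.RelGl1
import Mathlib.GroupTheory.RegularWreathProduct

/-!
# The wreath product of an M-group with a group of prime order is an M-group
-/

set_option autoImplicit false

namespace Cfsg.Agent.Lib.Helper81

open Cfsg Cfsg.Agent.Lib Cfsg.Agent.Lib.Helper15
open RegularWreathProduct

variable {M Q : Type*} [Group M] [Group Q]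

/-- the base group embedding -/
def wrBase : (Q → M) →* M ≀ᵣ Q where
  toFun f := ⟨f, 1⟩
  map_one' := rfl
  map_mul' f g := RegularWreathProduct.ext (by funext x; simp [mul_left]) (by simp)

/-- the base group is the kernel of the projection -/
def wrBaseEquiv : (Q → M) ≃* (rightHom : M ≀ᵣ Q →* Q).ker where
  toFun f := ⟨wrBase f, rfl⟩
  invFun w := w.1.left
  left_inv _ := rfl
  right_inv w := Subtype.ext (RegularWreathProduct.ext rfl (w.2 : rightHom w.1 = 1).symm)
  map_mul' f g := Subtype.ext (map_mul wrBase f g)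

theorem wr_conj (w : M ≀ᵣ Q) (b : Q → M) :
    w⁻¹ * wrBase b * w
      = wrBase (fun x => (w.left (w.right * x))⁻¹ * b (w.right * x) * w.left (w.right * x)) := by
  apply RegularWreathProduct.ext
  · funext x
    simp [mul_left, inv_left, wrBase]
  · simp [wrBase]

theorem wr_conj' (q : Q) (b : Q → M) :
    (inl q : M ≀ᵣ Q) * wrBase b * (inl q)⁻¹ = wrBase (fun x => b (q⁻¹ * x)) := by
  apply RegularWreathProduct.ext
  · funext x
    simp [mul_left, inv_left, wrBase]
  · simp [wrBase]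

/-- `H ≀ Q` inside `M ≀ Q` -/
def wrSub (H : Subgroup M) : Subgroup (M ≀ᵣ Q) where
  carrier := {w | ∀ x, w.left x ∈ H}
  one_mem' := fun _ => H.one_mem
  mul_mem' := fun {_ _} ha hb x => H.mul_mem (ha x) (hb _)
  inv_mem' := fun {_} ha _ => H.inv_mem (ha _)

/-- the extension of `lam × ⋯ × lam` to `H ≀ Q` -/
noncomputable def wrHom [Fintype Q] (H : Subgroup M) (lam : H →* ℂˣ) :
    ↥(wrSub (Q := Q) H) →* ℂˣ where
  toFun w := ∏ x, lam ⟨w.1.left x, w.2 x⟩
  map_one' := Finset.prod_eq_one (fun _ _ => map_one lam)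
  map_mul' a b := by
    have h1 : ∏ x, lam ⟨b.1.left x, b.2 x⟩ = ∏ x, lam ⟨b.1.left (a.1.right⁻¹ * x), b.2 _⟩ :=
      (Equiv.prod_comp (Equiv.mulLeft a.1.right⁻¹) (fun x => lam ⟨b.1.left x, b.2 x⟩)).symm
    rw [h1, ← Finset.prod_mul_distrib]
    apply Finset.prod_congr rfl
    intro x _
    rw [← map_mul]
    rfl

theorem extendByZero_wr [Fintype Q] (H : Subgroup M) (lam : H →* ℂˣ) (g : Q → M) :
    extendByZero (wrSub (Q := Q) H) (fun w => ((wrHom H lam w : ℂˣ) : ℂ)) (wrBase g)
      = ∏ x, extendByZero H (fun h => ((lam h : ℂˣ) : ℂ)) (g x) := by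
  by_cases hg : wrBase g ∈ wrSub (Q := Q) H
  · rw [extendByZero_mem _ _ hg]
    simp only [wrHom, MonoidHom.coe_mk, OneHom.coe_mk, Units.coe_prod]
    apply Finset.prod_congr rfl
    intro x _
    have hx : g x ∈ H := hg x
    rw [extendByZero_mem _ _ hx]
    rfl
  · rw [extendByZero_not_mem _ _ hg]
    have : ¬ ∀ x, g x ∈ H := hg
    push Not at this
    obtain ⟨x, hx⟩ := this
    exact (Finset.prod_eq_zero (Finset.mem_univ x)
      (extendByZero_not_mem H (fun h => ((lam h : ℂˣ) : ℂ)) hx)).symm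

theorem card_wrSub [Finite Q] (H : Subgroup M) :
    Nat.card (wrSub (Q := Q) H) = Nat.card H ^ Nat.card Q * Nat.card Q := by
  rw [← Nat.card_fun, ← Nat.card_prod]
  apply Nat.card_congr
  exact
    { toFun := fun w => (fun x => ⟨w.1.left x, w.2 x⟩, w.1.right)
      invFun := fun p => ⟨⟨fun x => p.1 x, p.2⟩, fun x => (p.1 x).2⟩
      left_inv := fun _ => rfl
      right_inv := fun _ => rfl }

theorem wr_ind_base [Fintype M] [Fintype Q] [Fintype (M ≀ᵣ Q)] (H : Subgroup M) (lam : H →* ℂˣ)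
    (b : Q → M) :
    indFun (wrSub (Q := Q) H) (fun w => ((wrHom H lam w : ℂˣ) : ℂ)) (wrBase b)
      = ∏ x, indFun H (fun h => ((lam h : ℂˣ) : ℂ)) (b x) := by
  classical
  set F : M → ℂ := extendByZero H (fun h => ((lam h : ℂˣ) : ℂ)) with hF
  have hsum : ∑ w : M ≀ᵣ Q, extendByZero (wrSub (Q := Q) H)
      (fun w => ((wrHom H lam w : ℂˣ) : ℂ)) (w⁻¹ * wrBase b * w)
      = (Nat.card Q : ℂ) * ∏ x, ∑ m : M, F (m⁻¹ * b x * m) := by
    calc ∑ w : M ≀ᵣ Q, extendByZero (wrSub (Q := Q) H)
          (fun w => ((wrHom H lam w : ℂˣ) : ℂ)) (w⁻¹ * wrBase b * w)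
        = ∑ p : (Q → M) × Q, ∏ x, F ((p.1 x)⁻¹ * b x * p.1 x) := by
          rw [← Equiv.sum_comp (equivProd M Q).symm]
          apply Finset.sum_congr rfl
          intro p _
          rw [wr_conj, extendByZero_wr]
          exact Equiv.prod_comp (Equiv.mulLeft p.2) (fun x => F ((p.1 x)⁻¹ * b x * p.1 x))
      _ = (Nat.card Q : ℂ) * ∑ f : Q → M, ∏ x, F ((f x)⁻¹ * b x * f x) := by
          rw [Fintype.sum_prod_type, Finset.mul_sum]
          apply Finset.sum_congr rfl
          intro f _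
          simp only []
          rw [Finset.sum_const, Finset.card_univ, nsmul_eq_mul, Nat.card_eq_fintype_card]
      _ = _ := by
          rw [sum_pi_prod (fun x m => F (m⁻¹ * b x * m))]
  simp only [indFun_apply]
  rw [hsum, card_wrSub, Finset.prod_mul_distrib, Finset.prod_const, Finset.card_univ,
    ← Nat.card_eq_fintype_card]
  have hQ : (Nat.card Q : ℂ) ≠ 0 := card_ne_zero Q
  have hH : (Nat.card H : ℂ) ≠ 0 := card_ne_zero H
  push_cast
  rw [mul_inv, inv_pow]
  field_simp
  rfl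

/-- a shift-invariant product of irreducible characters has equal factors -/
theorem factors_eq [Fintype M] [Fintype Q] (t : Q → M → ℂ) (ht : ∀ x, IsIrrCharacter M (t x))
    (hinv : ∀ (q : Q) (b : Q → M), ∏ x, t x (b (q⁻¹ * x)) = ∏ x, t x (b x)) (x : Q) :
    t x = t 1 := by
  classical
  let R : Q → ℂ := fun x => ∏ y ∈ Finset.univ \ {x}, t y 1
  have hR : ∀ x, R x ≠ 0 := fun x => Finset.prod_ne_zero_iff.2 (fun y _ => irr_one_ne_zero (ht y))
  have hsingle : ∀ (x : Q) (m : M), ∏ y, t y ((Pi.mulSingle x m : Q → M) y) = t x m * R x := by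
    intro x m
    have h1 : ∀ y, t y ((Pi.mulSingle x m : Q → M) y)
        = Function.update (fun y => t y 1) x (t x m) y := by
      intro y
      by_cases hy : y = x
      · subst hy; simp
      · rw [Function.update_of_ne hy, Pi.mulSingle_eq_of_ne hy]
    simp only [h1]
    exact Finset.prod_update_of_mem (Finset.mem_univ x) _ _
  have hshift : ∀ m : M, t x m * R x = t 1 m * R 1 := by
    intro m
    have h1 := hinv x (Pi.mulSingle 1 m)
    rw [hsingle] at h1
    rw [← h1, ← hsingle]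
    apply Finset.prod_congr rfl
    intro y _
    by_cases hy : y = x
    · subst hy; simp
    · rw [Pi.mulSingle_eq_of_ne hy, Pi.mulSingle_eq_of_ne]
      intro h
      apply hy
      rw [inv_mul_eq_one] at h
      exact h.symm
  by_contra hne
  have h0 := irr_inner_ne (ht x) (ht 1) hne
  have h1 : t x = (R 1 / R x) • t 1 := by
    funext m
    rw [Pi.smul_apply, smul_eq_mul]
    have := hshift m
    field_simp [hR x]
    rw [this]; ring
  rw [h1, classInner_smul_left, irr_inner_self (ht 1), mul_one] at h0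
  exact div_ne_zero (hR 1) (hR x) h0

theorem wreath_mgroup [Fintype M] [Fintype Q] [Fintype (M ≀ᵣ Q)] (hM : IsMGroup M)
    (hQ : (Nat.card Q).Prime) : IsMGroup (M ≀ᵣ Q) := by
  classical
  intro χ hχ
  set B : Subgroup (M ≀ᵣ Q) := (rightHom : M ≀ᵣ Q →* Q).ker with hB
  have hsurj : Function.Surjective (rightHom : M ≀ᵣ Q →* Q) := fun q => ⟨inl q, rfl⟩
  have hidx : B.index = Nat.card Q := by
    rw [hB, Subgroup.index_ker, MonoidHom.range_eq_top.2 hsurj, Subgroup.card_top]
  have hPi : IsMGroup (Q → M) := pi_mgroup hM Q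
  have hcomm : commutator (M ≀ᵣ Q) ≤ B := by
    have : IsCyclic Q := isCyclic_of_prime_card (hp := ⟨hQ⟩) rfl
    rw [commutator_def, Subgroup.commutator_le]
    intro g _ h _
    rw [hB, MonoidHom.mem_ker, map_commutatorElement, commutatorElement_eq_one_iff_mul_comm]
    exact IsCyclic.commGroup.mul_comm _ _
  rcases homog_or_induced B hχ with ⟨θ', c, hθ', hres⟩ | ⟨T, ψ, hBT, hT, hψ, hind⟩
  · have hc : (c : ℂ) ≠ 0 := by
      intro h0
      apply irr_one_ne_zero hχ
      have := congrFun hres 1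
      rw [h0] at this
      simpa using this
    let θ : (Q → M) → ℂ := θ' ∘ wrBaseEquiv
    have hθ : IsIrrCharacter (Q → M) θ := irr_comp_equiv wrBaseEquiv hθ'
    obtain ⟨t, ht, hθt⟩ := pi_irr M Q _ θ hθ
    have hχθ : ∀ b, χ (wrBase b) = c * θ b := fun b => congrFun hres (wrBaseEquiv b)
    have hinv : ∀ (q : Q) (b : Q → M), θ (fun x => b (q⁻¹ * x)) = θ b := by
      intro q b
      have h1 : χ (wrBase (fun x => b (q⁻¹ * x))) = χ (wrBase b) := by
        rw [← wr_conj']
        exact (irr_cf hχ) _ _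
      rw [hχθ, hχθ] at h1
      exact mul_left_cancel₀ hc h1
    have hteq : ∀ x, t x = t 1 := factors_eq t ht (by
      intro q b
      rw [← hθt, ← hθt]
      exact hinv q b)
    obtain ⟨H0, lam0, h0⟩ := hM (t 1) (ht 1)
    set U := wrSub (Q := Q) H0 with hU
    set ψ := indFun U (fun w => ((wrHom H0 lam0 w : ℂˣ) : ℂ)) with hψ
    have hψb : ∀ b, ψ (wrBase b) = θ b := by
      intro b
      rw [hψ, wr_ind_base, hθt]
      apply Finset.prod_congr rfl
      intro x _
      rw [hteq x, h0]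
    have hψchar : IsCharacter (M ≀ᵣ Q) ψ := char_indFun U (char_toFn (wrHom H0 lam0))
    have hψB : (fun n : B => ψ n) = θ' := by
      funext n
      have h1 := hψb (wrBaseEquiv.symm n)
      have h2 : wrBase (wrBaseEquiv.symm n) = (n : M ≀ᵣ Q) :=
        congrArg Subtype.val (wrBaseEquiv.apply_symm_apply n)
      have h3 : θ (wrBaseEquiv.symm n) = θ' n := by
        simp [θ]
      rw [h2, h3] at h1
      exact h1
    have hψBirr : IsIrrCharacter B (fun n : B => ψ n) := hψB ▸ hθ'
    have hψirr := irr_of_restrict_irr B hψchar hψBirr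
    have hgal := gallagher B hψirr hψBirr
    have hmem : χ ∈ {ψ' | IsIrrCharacter (M ≀ᵣ Q) ψ' ∧
        classInner (fun n : B => ψ' n) (fun n : B => ψ n) ≠ 0} := by
      refine ⟨hχ, ?_⟩
      rw [hres, hψB, classInner_smul_left, irr_inner_self hθ', mul_one]
      exact hc
    obtain ⟨β, ⟨hβ, hβ1⟩, hβχ⟩ := hgal.surjOn hmem
    have hβlin : β 1 = 1 := linear_of_commutator_le B hcomm hβ hβ1
    obtain ⟨μ, rfl⟩ := exists_toFn (irr_char hβ) hβlin
    refine ⟨U, wrHom H0 lam0 * μ.comp U.subtype, ?_⟩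
    have h5 := indFun_mul_restrict U (fun w => ((wrHom H0 lam0 w : ℂˣ) : ℂ)) (irr_cf hβ)
    rw [← hβχ]
    change toFn μ * ψ = _
    rw [mul_comm, hψ, ← h5]
    congr 1
  · have hTB : T = B := by
      apply le_antisymm _ hBT
      have h1 := Subgroup.relIndex_mul_index hBT
      rw [hidx] at h1
      have h2 : T.index ∣ Nat.card Q := ⟨_, by rw [← h1, mul_comm]⟩
      rcases (Nat.dvd_prime hQ).1 h2 with h3 | h3
      · exact absurd (Subgroup.index_eq_one.1 h3) hT
      · rw [h3] at h1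
        have h4 : B.relIndex T = 1 := by
          have hpos := hQ.pos
          nlinarith [h1]
        exact Subgroup.relIndex_eq_one.1 h4
    let e : ↥T ≃* (Q → M) := (MulEquiv.subgroupCongr hTB).trans wrBaseEquiv.symm
    have hTM : IsMGroup ↥T := mgroup_of_equiv e hPi
    obtain ⟨H, lam, h⟩ := Helper3.exists_monomial_of_induced T (hTM ψ hψ)
    exact ⟨H, lam, by rw [← hind, h]⟩

end Cfsg.Agent.Lib.Helper81
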